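import Cfsg.Agent.HNOut.Derive

/-!
A setup from a model of any group mapped isomorphically onto `⟨x, y, z⟩`.
-/

set_option autoImplicit false

namespace Cfsg.Agent.HNOut

open Subgroup HNMult Cfsg.Agent.DCoset

/-- A model carried to the image of an injective map. -/
noncomputable def transfer {Q G : Type*} [Group Q] [Group G] (P : QModel Q) (ι : Q →* G) (H : Subgroup G)
    (hinj : Function.Injective ι) (hrange : ι.range = H) : QModel ↥H where
  toTab := P.toTab
  q g := ⟨ι (P.q g), hrange ▸ ⟨P.q g, rfl⟩⟩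
  tup a := P.tup ((MonoidHom.ofInjective hinj).symm ⟨(a : G), hrange.symm ▸ a.2⟩)
  one := by
    rw [show (⟨((1 : H) : G), hrange.symm ▸ (1 : H).2⟩ : ι.range) = 1 from rfl, map_one, P.one]
  step a g hg := by
    rw [← P.step _ g hg]
    congr 1
    apply (MonoidHom.ofInjective hinj).injective
    rw [MulEquiv.apply_symm_apply, map_mul, MulEquiv.apply_symm_apply]
    exact Subtype.ext rfl
  inj a b h := by
    have := (MonoidHom.ofInjective hinj).symm.injective (P.inj h)
    exact Subtype.ext (congrArg Subtype.val this :)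
  act_lt := P.act_lt

theorem transfer_toModel {Q G : Type*} [Group Q] [Group G] (P : QModel Q) (ι : Q →* G) (H : Subgroup G)
    (hinj : Function.Injective ι) (hrange : ι.range = H) :
    (transfer P ι H hinj hrange).toModel H.subtype = P.toModel ι := by
  have hR : ((transfer P ι H hinj hrange).toModel H.subtype).R = (P.toModel ι).R := by
    funext v x
    refine propext ⟨?_, ?_⟩
    · rintro ⟨a, ha, rfl⟩
      exact ⟨_, ha, congrArg Subtype.val ((MonoidHom.ofInjective hinj).apply_symm_apply ⟨(a : G), hrange.symm ▸ a.2⟩)⟩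
    · rintro ⟨a, ha, rfl⟩
      refine ⟨⟨ι a, hrange ▸ ⟨a, rfl⟩⟩, ?_, rfl⟩
      rw [← ha]
      show P.tup _ = P.tup a
      congr 1
      apply (MonoidHom.ofInjective hinj).injective
      rw [MulEquiv.apply_symm_apply]
      exact Subtype.ext rfl
  unfold QModel.toModel Model.ofHom at hR ⊢
  simp only [Model.mk.injEq]
  exact ⟨rfl, rfl, hR⟩

/-- A setup from a model of a group mapped isomorphically onto `⟨x, y, z⟩`. -/
noncomputable def Setup.ofHom {Q : Type*} [Group Q] (P : QModel Q) (ι : Q →* Cfsg.Spor.HN)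
    (htab : P.toTab = DCoset.HN.tab) (hinj : Function.Injective ι) (hrange : ι.range = sub3)
    (hx : ι (P.q 0) = gen Cfsg.Spor.HN.Gen.x) (hy : ι (P.q 2) = gen Cfsg.Spor.HN.Gen.y)
    (hgenQ : Subgroup.closure {q | ∃ g, g < P.nL ∧ q = P.q g} = ⊤) (T : Nat → Cfsg.Spor.HN)
    (hgenG : Subgroup.closure (Set.range ι ∪ {g | ∃ t, t < DCoset.HN.rules.nT ∧ g = T t}) = ⊤)
    (hL : DCoset.HN.rules.Sound (P.toModel ι) T) : Setup where
  M := transfer P ι sub3 hinj hrange
  tab_eq := htab
  q_x := hx
  q_y := hy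
  genQ := by
    set e : Q →* ↥(sub3 : Subgroup Cfsg.Spor.HN) := ι.codRestrict sub3 fun a => hrange ▸ ⟨a, rfl⟩
    have he : Function.Surjective e := fun b => by
      obtain ⟨a, ha⟩ : (b : Cfsg.Spor.HN) ∈ ι.range := hrange.symm ▸ b.2
      exact ⟨a, Subtype.ext ha⟩
    rw [← Subgroup.map_top_of_surjective e he, ← hgenQ, MonoidHom.map_closure]
    congr 1
    ext b
    constructor
    · rintro ⟨g, hg, rfl⟩; exact ⟨P.q g, ⟨g, hg, rfl⟩, rfl⟩
    · rintro ⟨_, ⟨g, hg, rfl⟩, rfl⟩; exact ⟨g, hg, rfl⟩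
  T := T
  genG := by
    rw [← hgenG]
    congr 2
    rw [← MonoidHom.coe_range, ← MonoidHom.coe_range, Subgroup.range_subtype, hrange]
  sound := by rw [transfer_toModel]; exact hL
  holds := by
    intro s hs
    rw [transfer_toModel]
    refine Steps.holds hL (fun g _ => ?_) DCoset.HN.node_src (by decide) (fun s hs => ?_) s hs
    · rw [Subgroup.range_subtype]
      exact hrange ▸ ⟨P.q g, rfl⟩
    · show Steps.check _ _ P.toTab s = true
      rw [htab]
      exact DCoset.HN.steps_ok s hs

end Cfsg.Agent.HNOut
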