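import Cfsg.Agent.HNOut.Endo
import Cfsg.Agent.HigSims.Out

/-!
The automorphism group of a nonsplit double cover of the Higman–Sims group is small, so every automorphism of it
inside `⟨x, y, z⟩` is conjugation by an element of that group.
-/

set_option autoImplicit false

namespace Cfsg.Agent.HNOut

open Subgroup
open scoped commutatorElement

/-- At most two times the order of the group. -/
theorem card_mulAut_hs_le : Nat.card (MulAut ↥Cfsg.Spor.HS) ≤ 88704000 ∧ Finite (MulAut ↥Cfsg.Spor.HS) := by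
  have hfin : Finite (MulAut ↥Cfsg.Spor.HS) :=
    Finite.of_injective (fun φ => (φ : ↥Cfsg.Spor.HS → ↥Cfsg.Spor.HS)) DFunLike.coe_injective
  refine ⟨?_, hfin⟩
  rw [Subgroup.card_eq_card_quotient_mul_card_subgroup (Cfsg.Inn ↥Cfsg.Spor.HS),
    show Nat.card (MulAut ↥Cfsg.Spor.HS ⧸ Cfsg.Inn ↥Cfsg.Spor.HS) = 2 from HigSims.card_out]
  have h : Nat.card ↥(Cfsg.Inn ↥Cfsg.Spor.HS) ≤ Nat.card ↥Cfsg.Spor.HS :=
    Nat.card_le_card_of_surjective (MulAut.conj : ↥Cfsg.Spor.HS →* MulAut ↥Cfsg.Spor.HS).rangeRestrict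
      (MonoidHom.rangeRestrict_surjective _)
  rw [HigSims.card_hs] at h
  omega

/-- Two automorphisms of a perfect group agreeing modulo the centre agree. -/
theorem aut_eq_of_mod_center {K : Type*} [Group K] (hK : commutator K = ⊤) (φ ψ : MulAut K)
    (h : ∀ k, (ψ k)⁻¹ * φ k ∈ center K) : φ = ψ := by
  let μ : K →* ↥(center K) :=
    { toFun := fun k => ⟨(ψ k)⁻¹ * φ k, h k⟩
      map_one' := by ext; simp
      map_mul' := fun a b => by
        ext
        show (ψ (a * b))⁻¹ * φ (a * b) = (ψ a)⁻¹ * φ a * ((ψ b)⁻¹ * φ b)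
        rw [map_mul, map_mul, mul_inv_rev]
        calc (ψ b)⁻¹ * (ψ a)⁻¹ * (φ a * φ b) = (ψ b)⁻¹ * ((ψ a)⁻¹ * φ a) * φ b := by group
          _ = (ψ a)⁻¹ * φ a * (ψ b)⁻¹ * φ b := by rw [mem_center_iff.1 (h a) (ψ b)⁻¹]
          _ = _ := by group }
  have hμ : commutator K ≤ μ.ker := by
    rw [_root_.commutator_def, commutator_le]
    intro a _ b _
    rw [MonoidHom.mem_ker, map_commutatorElement, commutatorElement_eq_one_iff_mul_comm]
    exact Subtype.ext (mem_center_iff.1 (μ b).2 (μ a : K))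
  refine MulEquiv.ext fun k => ?_
  have h1 : (ψ k)⁻¹ * φ k = 1 := congrArg Subtype.val (hμ (hK ▸ mem_top k) : μ k = 1)
  exact (inv_mul_eq_one.1 h1).symm

/-- The automorphism group of a nonsplit double cover. -/
theorem card_mulAut_cover_le {K : Type*} [Group K] (h : Cfsg.IsNonsplitDoubleCover K ↥Cfsg.Spor.HS) :
    Nat.card (MulAut K) ≤ 88704000 := by
  have hperf := HNMult.cover_perfect h
  obtain ⟨-, ⟨e⟩, -⟩ := h
  let F : MulAut K → MulAut (K ⧸ center K) := fun φ =>
    QuotientGroup.congr (center K) (center K) φ (Subgroup.characteristic_iff_map_eq.1 inferInstance φ)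
  have hF : Function.Injective F := by
    intro φ ψ hφψ
    refine aut_eq_of_mod_center hperf φ ψ fun k => ?_
    have hk : (ψ k : K ⧸ center K) = (φ k : K ⧸ center K) :=
      (DFunLike.congr_fun hφψ (k : K ⧸ center K)).symm
    exact QuotientGroup.eq.1 hk
  obtain ⟨hle, hfin⟩ := card_mulAut_hs_le
  have he := Nat.card_congr (MulAut.congr e).toEquiv
  have : Finite (MulAut (K ⧸ center K)) := Finite.of_equiv _ (MulAut.congr e).toEquiv.symm
  calc Nat.card (MulAut K) ≤ Nat.card (MulAut (K ⧸ center K)) := Nat.card_le_card_of_injective F hF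
    _ ≤ 88704000 := by rw [he]; exact hle

/-- The order of a nonsplit double cover. -/
theorem card_cover {K : Type*} [Group K] (h : Cfsg.IsNonsplitDoubleCover K ↥Cfsg.Spor.HS) :
    Nat.card K = 88704000 := by
  obtain ⟨hcard, ⟨e⟩, -⟩ := h
  rw [Subgroup.card_eq_card_quotient_mul_card_subgroup (center K), hcard, Nat.card_congr e.toEquiv,
    HigSims.card_hs]

/-- If a group induces on a subgroup of index two, a double cover of HS, a group of automorphisms with kernel of
order at most two, it induces all of them. -/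
theorem conjNormal_surjective {P : Type*} [Group P] [Finite P] (K : Subgroup P) [K.Normal] (hK2 : K.index = 2)
    (hKc : Cfsg.IsNonsplitDoubleCover K ↥Cfsg.Spor.HS)
    (hker : Nat.card ↥(MulAut.conjNormal : P →* MulAut K).ker ≤ 2) (φ : MulAut K) :
    ∃ p : P, ∀ k : K, (φ k : P) = p * k * p⁻¹ := by
  have hfin : Finite (MulAut K) :=
    Finite.of_injective (fun φ => (φ : K → K)) DFunLike.coe_injective
  set f : P →* MulAut K := MulAut.conjNormal with hf
  have hP : Nat.card P = 88704000 * 2 := by rw [← card_cover hKc, ← hK2, Subgroup.card_mul_index]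
  have hr : Nat.card P = Nat.card ↥f.range * Nat.card ↥f.ker := by
    rw [Subgroup.card_eq_card_quotient_mul_card_subgroup f.ker,
      Nat.card_congr (QuotientGroup.quotientKerEquivRange f).toEquiv]
  have hle : Nat.card ↥f.range * Nat.card ↥f.ker ≤ Nat.card ↥f.range * 2 := Nat.mul_le_mul_left _ hker
  have htop : f.range = ⊤ := by
    refine Subgroup.eq_top_of_card_eq _ (le_antisymm ((Subgroup.card_le_card_group _)) ?_)
    have := card_mulAut_cover_le hKc
    omega
  obtain ⟨p, hp⟩ := (htop ▸ mem_top φ : φ ∈ f.range)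
  exact ⟨p, fun k => by rw [← hp]; rfl⟩

end Cfsg.Agent.HNOut
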