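import Cfsg.Agent.HNOut.DataU
import Cfsg.Agent.HNOut.DataV

/-!
Computations in the 1408 point model of `⟨x, y, z⟩`: the elements commuting with `y` and its conjugate by `x`, and
the involutions commuting with an element of order eleven.
-/

set_option Elab.async false
set_option maxRecDepth 100000
set_option maxHeartbeats 0

namespace Cfsg.Agent.HNOut

open Cfsg.Agent.DCoset Cfsg.Agent.CosetCert

/-- The word `x ^ 2`. -/
def wC : Nat := 0x2

/-- The word of order eleven. -/
def wV : Nat := 0x20004030402020007

/-- The words are made of `y`, `x⁻¹ * y * x` and their inverses. -/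
noncomputable def spellU : Nat → Nat → Bool :=
  fun fuel => Nat.rec (fun _ => false)
    (fun _ ih w => force (Nat.mod w 65536) fun n => force (Nat.div w 65536) fun u =>
      Bool.rec (motive := fun _ => Bool)
        (force (Nat.mod u 256) fun a =>
          Bool.rec (motive := fun _ => Bool)
            (gate (Nat.beq a 1) (force (Nat.mod (Nat.div u 256) 256) fun b =>
              gate (Bool.rec (motive := fun _ => Bool) (Nat.beq b 3) true (Nat.beq b 2))
                (gate (Nat.beq (Nat.mod (Nat.div u 65536) 256) 0) (gate (Nat.ble 3 n)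
                  (ih (Nat.add (Nat.mul (Nat.div u 16777216) 65536) (Nat.sub n 3)))))))
            (ih (Nat.add (Nat.mul (Nat.div u 256) 65536) (Nat.sub n 1)))
            (Bool.rec (motive := fun _ => Bool) (Nat.beq a 3) true (Nat.beq a 2)))
        true (Nat.beq n 0)) fuel

/-- A product of words that is central. -/
noncomputable def goodU (ws : List Nat) : Bool :=
  force (tupL HN.tab ws) fun t =>
    Bool.rec (motive := fun _ => Bool) (Nat.beq t (HN.tab.app HN.tab.base wC)) true (Nat.beq t HN.tab.base)

/-- A product of words that is central or no involution. -/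
noncomputable def goodV (ws : List Nat) : Bool :=
  Bool.rec (motive := fun _ => Bool)
    (Bool.rec (motive := fun _ => Bool) true false (Nat.beq (tupL HN.tab (ws ++ ws)) HN.tab.base)) true (goodU ws)

/-- The tuple of a power of the word of order eleven. -/
noncomputable def powV : Nat → Nat := fun n => Nat.rec HN.tab.base (fun _ t => HN.tab.app t wV) n

theorem repU_all : allFrom (fun l => allFrom (Sift.checkRep siftU HN.tab l) 0 (siftU.size l)) 0 12 = true := by
  decide +kernel

theorem repV_all : allFrom (fun l => allFrom (Sift.checkRep siftV HN.tab l) 0 (siftV.size l)) 0 4 = true := by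
  decide +kernel

theorem ptsU_all : allFrom (Sift.checkPts siftU HN.tab 1408) 0 1408 = true := by
  decide +kernel

theorem ptsV_all : allFrom (Sift.checkPts siftV HN.tab 1408) 0 1408 = true := by
  decide +kernel

theorem mvU_all : allFrom (fun l => gate (Sift.checkMv siftU HN.tab l)
    (gate (Nat.blt (siftU.bs l) 1408) (gate (Nat.blt (siftU.root (siftU.sel l)) 1408)
      (gate (Nat.ble (siftU.sel l) 1) (spellU 64 (siftU.mv l)))))) 0 12 = true := by
  decide +kernel

theorem mvV_all : allFrom (fun l => gate (Sift.checkMv siftV HN.tab l)
    (gate (Nat.blt (siftV.bs l) 1408) (gate (Nat.beq (siftV.sel l) 0)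
      (Nat.beq (HN.tab.app HN.tab.base (siftV.mv l)) (powV l))))) 0 4 = true := by
  decide +kernel

theorem wV_order : powV 11 = HN.tab.base ∧ powV 1 ≠ HN.tab.base := by decide +kernel

theorem wC_ne : HN.tab.app HN.tab.base wC ≠ HN.tab.base := by decide +kernel

theorem spellU_all : allFrom (fun l => allFrom (fun i => spellU 256 (siftU.rep l i)) 0 (siftU.size l)) 1 11 = true := by
  decide +kernel

theorem prodU : ((List.range 12).map siftU.size).prod = 177408000 := by decide +kernel

theorem prodV : ((List.range 4).map siftV.size).prod = 177408000 := by decide +kernel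

theorem candU : allFrom (fun a => allFrom (Sift.checkCand siftU HN.tab goodU a) 0 1408) 0 4 = true := by
  decide +kernel

theorem candV : allFrom (fun a => Sift.checkCand siftV HN.tab goodV a 0) 0 1408 = true := by
  decide +kernel

theorem fixU_all : allFrom (fun p => Bool.rec (motive := fun _ => Bool)
    (Bool.rec (motive := fun _ => Bool) true false
      (gate (Nat.beq (HN.tab.act 2 p) p) (Nat.beq (actW HN.tab.act p 0x2010003) p)))
    true (Nat.blt p 4)) 0 1408 = true := by
  decide +kernel

/-- The points `0 ^ (x ^ i)`. -/
theorem xpoints : HN.tab.act 0 0 = 2 ∧ HN.tab.act 1 0 = 1 ∧ HN.tab.act 0 (HN.tab.act 0 0) = 3 ∧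
    actW HN.tab.act 0 0x20001 = 0 ∧ actW HN.tab.act 0 0x2010003 = 0 := by
  decide +kernel

end Cfsg.Agent.HNOut
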