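import Cfsg.Agent.HNOut.Main
import Cfsg.Agent.HNOut.Checks
import Cfsg.Agent.DCoset.Orbits
import Cfsg.Agent.DCoset.HN.Cert

/-!
The four facts about `⟨x, y, z⟩` from the double coset certificate and a model of that group on 1408 points.
-/

set_option autoImplicit false
set_option linter.constructorNameAsVariable false

namespace Cfsg.Agent.HNOut

open Subgroup HNMult Cfsg.Agent.DCoset Cfsg.Agent.CosetCert

local notation "gx" => gen Cfsg.Spor.HN.Gen.x
local notation "gy" => gen Cfsg.Spor.HN.Gen.y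
local notation "gz" => gen Cfsg.Spor.HN.Gen.z
local notation "gt" => gen Cfsg.Spor.HN.Gen.t

/-- A model of `⟨x, y, z⟩` in the permutations of the table for which the certificate holds. -/
structure Setup where
  /-- the model -/
  M : QModel ↥(sub3 : Subgroup Cfsg.Spor.HN)
  tab_eq : M.toTab = DCoset.HN.tab
  q_x : ((M.q 0 : sub3) : Cfsg.Spor.HN) = gx
  q_y : ((M.q 2 : sub3) : Cfsg.Spor.HN) = gy
  genQ : Subgroup.closure {q | ∃ g, g < M.nL ∧ q = M.q g} = ⊤
  /-- the extra letters -/
  T : Nat → Cfsg.Spor.HN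
  genG : Subgroup.closure (Set.range (sub3 : Subgroup Cfsg.Spor.HN).subtype ∪
    {g | ∃ t, t < DCoset.HN.rules.nT ∧ g = T t}) = ⊤
  sound : DCoset.HN.rules.Sound (M.toModel (sub3 : Subgroup Cfsg.Spor.HN).subtype) T
  holds : ∀ s, s < DCoset.HN.steps.len →
    DCoset.HN.steps.Holds DCoset.HN.rules (M.toModel (sub3 : Subgroup Cfsg.Spor.HN).subtype)
      (sub3 : Subgroup Cfsg.Spor.HN).subtype.range T s

/-- No union of suborbits containing the base coset has size a proper divisor of the index. -/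
theorem sizes_check : ∀ A ∈ (Finset.range 9).powerset, 0 ∈ A → (∑ m ∈ A, DCoset.HN.cover.idx m) ∣ 1539000 →
    A = {0} ∨ A = Finset.range 9 := by
  decide +kernel

/-- The suborbit lengths. -/
theorem idx_check : ∀ m : Fin 9, DCoset.HN.cover.idx 0 = 1 ∧ DCoset.HN.cover.idx 1 = 1408 ∧
    (DCoset.HN.cover.idx m ≤ 1408 → (m : Nat) ≤ 1) ∧
    ((m : Nat) ≠ 0 → ¬ 11 * DCoset.HN.cover.idx m ∣ 177408000) := by
  decide +kernel

theorem misc_check : siftU.root 0 = 0 ∧ siftU.root 1 = 4 ∧ siftV.root 0 = 0 ∧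
    siftU.bs 0 = fld DCoset.HN.tab.base 0 ∧ siftV.bs 0 = fld DCoset.HN.tab.base 0 ∧
    siftU.pt 0 (siftU.pos 0 0) = 0 ∧ siftU.rep 0 0 = 0 ∧ siftU.pos 0 0 = 0 ∧
    DCoset.HN.tab.app (DCoset.HN.tab.app DCoset.HN.tab.base 0x1) 0x10001 = DCoset.HN.tab.base ∧
    DCoset.HN.tab.app (DCoset.HN.tab.app DCoset.HN.tab.base 0x20001) 0x30001 = DCoset.HN.tab.base := by
  decide +kernel

section

variable (hx4 : gen Cfsg.Spor.HN.Gen.x ^ 4 = (1 : Cfsg.Spor.HN)) (hC : Nat.card Cfsg.Spor.HN = 273030912000000)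
  (hP : Nat.card ↥(sub3 : Subgroup Cfsg.Spor.HN) = 177408000)
include hx4 hC hP

theorem card_sub3 : Nat.card ↥(sub3 : Subgroup Cfsg.Spor.HN) = 177408000 := hP

theorem index_sub3 : (sub3 : Subgroup Cfsg.Spor.HN).index = 1539000 := by
  have h := Subgroup.card_mul_index (sub3 : Subgroup Cfsg.Spor.HN)
  rw [card_sub3 hx4 hC hP, hC] at h
  omega

theorem finite_sub3 : Finite ↥(sub3 : Subgroup Cfsg.Spor.HN) :=
  Nat.finite_of_card_ne_zero (by rw [card_sub3 hx4 hC hP]; norm_num)

theorem sub3_ne_top : (sub3 : Subgroup Cfsg.Spor.HN) ≠ ⊤ := by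
  intro h
  have := index_sub3 hx4 hC hP
  rw [h, Subgroup.index_top] at this
  norm_num at this

theorem t_not_mem : gt ∉ (sub3 : Subgroup Cfsg.Spor.HN) := by
  intro h
  refine sub3_ne_top hx4 hC hP (eq_top_iff.2 ?_)
  rw [← PresentedGroup.closure_range_of rels, closure_le]
  rintro _ ⟨i, rfl⟩
  cases i
  exacts [gen_mem _ (by simp), gen_mem _ (by simp), gen_mem _ (by simp), h]

end

variable (S : Setup)

theorem app_el {w : Nat} (hw : S.M.toTab.okWord w = true) :
    DCoset.HN.tab.app DCoset.HN.tab.base w = S.M.tup (S.M.el w) := by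
  rw [← S.tab_eq, ← S.M.one, Sift.app_tup hw, one_mul]

theorem okWord_el (w : Nat) (h : DCoset.HN.tab.okWord w = true) : S.M.toTab.okWord w = true := by
  rw [S.tab_eq]; exact h

theorem el_one_letter (g : Nat) (hg : g < 256) : S.M.el (g * 65536 + 1) = S.M.q g := by
  rw [QModel.el, DCoset.val, show (g * 65536 + 1) % 65536 = 1 by omega,
    show (g * 65536 + 1) / 65536 = g by omega]
  simp [valW, Nat.mod_eq_of_lt hg]

theorem q_inv : S.M.q 1 = (S.M.q 0)⁻¹ ∧ S.M.q 3 = (S.M.q 2)⁻¹ := by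
  have key : ∀ a b, a < 256 → b < 256 → DCoset.HN.tab.okWord (a * 65536 + 1) = true →
      DCoset.HN.tab.okWord (b * 65536 + 1) = true →
      DCoset.HN.tab.app (DCoset.HN.tab.app DCoset.HN.tab.base (a * 65536 + 1)) (b * 65536 + 1) =
        DCoset.HN.tab.base → S.M.q b = (S.M.q a)⁻¹ := by
    intro a b ha hb ka kb h
    rw [app_el S (okWord_el S _ ka), ← S.tab_eq, Sift.app_tup (okWord_el S _ kb), el_one_letter S a ha,
      el_one_letter S b hb, ← S.M.one] at h
    exact eq_inv_of_mul_eq_one_right (S.M.inj h)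
  obtain ⟨-, -, -, -, -, -, -, -, h1, h3⟩ := misc_check
  exact ⟨key 0 1 (by norm_num) (by norm_num) (by decide +kernel) (by decide +kernel) h1,
    key 2 3 (by norm_num) (by norm_num) (by decide +kernel) (by decide +kernel) h3⟩

/-- The conjugate of `y` by `x`, in the model. -/
def yx : ↥(sub3 : Subgroup Cfsg.Spor.HN) := (S.M.q 0)⁻¹ * S.M.q 2 * S.M.q 0

theorem coe_yx : ((yx S : sub3) : Cfsg.Spor.HN) = (gx)⁻¹ * gy * gx := by
  rw [yx, Subgroup.coe_mul, Subgroup.coe_mul, Subgroup.coe_inv, S.q_x, S.q_y]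

/-- The subgroup generated by `y` and its conjugate. -/
def grpU : Subgroup ↥(sub3 : Subgroup Cfsg.Spor.HN) := closure {S.M.q 2, yx S}

theorem el_yx : S.M.el 0x2010003 = yx S := by
  rw [QModel.el, DCoset.val, show (0x2010003 : Nat) % 65536 = 3 by norm_num,
    show (0x2010003 : Nat) / 65536 = 1 + 2 * 256 by norm_num]
  simp only [valW, show (1 + 2 * 256) % 256 = 1 by norm_num, show (1 + 2 * 256) / 256 = 2 by norm_num,
    show (2 : Nat) % 256 = 2 by norm_num, show (2 : Nat) / 256 = 0 by norm_num,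
    show (0 : Nat) % 256 = 0 by norm_num, mul_one]
  rw [(q_inv S).1, yx, mul_assoc]

theorem spellU_succ (fuel w : Nat) : spellU (fuel + 1) w =
    Bool.rec (motive := fun _ => Bool)
      (Bool.rec (motive := fun _ => Bool)
        (Nat.beq (w / 65536 % 256) 1 &&
          (Bool.rec (motive := fun _ => Bool) (Nat.beq (w / 65536 / 256 % 256) 3) true
              (Nat.beq (w / 65536 / 256 % 256) 2) &&
            (Nat.beq (w / 65536 / 65536 % 256) 0 && (Nat.ble 3 (w % 65536) &&
              spellU fuel (w / 65536 / 16777216 * 65536 + (w % 65536 - 3))))))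
        (spellU fuel (w / 65536 / 256 * 65536 + (w % 65536 - 1)))
        (Bool.rec (motive := fun _ => Bool) (Nat.beq (w / 65536 % 256) 3) true (Nat.beq (w / 65536 % 256) 2)))
      true (Nat.beq (w % 65536) 0) := by
  simp only [spellU, force_eq, gate_eq]
  rfl

theorem spellU_sound : ∀ fuel w, spellU fuel w = true → S.M.el w ∈ grpU S
  | 0, w, h => by simp [spellU] at h
  | fuel + 1, w, h => by
    have hy : S.M.q 2 ∈ grpU S := subset_closure (Or.inl rfl)
    have hyx : yx S ∈ grpU S := subset_closure (Or.inr rfl)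
    rw [spellU_succ] at h
    cases hn : Nat.beq (w % 65536) 0
    case true =>
      rw [QModel.el, DCoset.val, Nat.eq_of_beq_eq_true hn]
      exact one_mem _
    rw [hn] at h
    have hn0 : w % 65536 ≠ 0 := fun e => by rw [e] at hn; simp at hn
    change (Bool.rec (motive := fun _ => Bool) _ _ _) = true at h
    have hval : ∀ n u, n < 65536 → S.M.el (u * 65536 + n) = valW S.M.q n u := fun n u hn => by
      rw [QModel.el, DCoset.val, show (u * 65536 + n) % 65536 = n by omega,
        show (u * 65536 + n) / 65536 = u by omega]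
    rw [QModel.el, DCoset.val]
    obtain ⟨n, hn'⟩ : ∃ n, w % 65536 = n + 1 := ⟨w % 65536 - 1, by omega⟩
    have hlt : w % 65536 < 65536 := Nat.mod_lt _ (by norm_num)
    cases h23 : (Bool.rec (motive := fun _ => Bool) (Nat.beq (w / 65536 % 256) 3) true
      (Nat.beq (w / 65536 % 256) 2) : Bool) <;> rw [h23] at h
    · simp only [Bool.and_eq_true] at h
      obtain ⟨h1, hb, h0, h3, h⟩ := h
      have h3 : 3 ≤ w % 65536 := Nat.ble_eq.mp h3
      obtain ⟨m, hm⟩ : ∃ m, w % 65536 = m + 1 + 1 + 1 := ⟨w % 65536 - 3, by omega⟩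
      have ih := spellU_sound fuel _ h
      rw [hval _ _ (by omega), show w % 65536 - 3 = m by omega] at ih
      rw [hm]
      simp only [valW]
      rw [Nat.eq_of_beq_eq_true h1,
        show w / 65536 / 256 / 256 % 256 = w / 65536 / 65536 % 256 by rw [Nat.div_div_eq_div_mul (w / 65536) 256 256],
        show w / 65536 / 65536 % 256 = 0 from Nat.eq_of_beq_eq_true h0,
        show w / 65536 / 256 / 256 / 256 = w / 65536 / 16777216 by
          rw [Nat.div_div_eq_div_mul (w / 65536) 256 256, Nat.div_div_eq_div_mul]]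
      rw [← mul_assoc, ← mul_assoc]
      refine mul_mem ?_ ih
      cases hb2 : Nat.beq (w / 65536 / 256 % 256) 2
      · rw [hb2] at hb
        rw [Nat.eq_of_beq_eq_true hb, (q_inv S).1, (q_inv S).2]
        have := inv_mem hyx
        rwa [yx, mul_inv_rev, mul_inv_rev, inv_inv, ← mul_assoc] at this
      · rw [Nat.eq_of_beq_eq_true hb2, (q_inv S).1]
        exact hyx
    · have ih := spellU_sound fuel _ h
      rw [hval _ _ (by omega), show w % 65536 - 1 = n by omega] at ih
      rw [hn', valW]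
      refine mul_mem ?_ ih
      cases h2 : Nat.beq (w / 65536 % 256) 2
      · rw [h2] at h23
        rw [Nat.eq_of_beq_eq_true h23, (q_inv S).2]
        exact inv_mem hy
      · rw [Nat.eq_of_beq_eq_true h2]
        exact hy

theorem validU : Sift.Valid S.M siftU 1408 177408000 where
  pos_k := by rw [S.tab_eq]; decide
  lev := by decide
  bs_zero := by rw [S.tab_eq]; exact misc_check.2.2.2.1
  bs_lt l hl := by
    have h := allFrom_all mvU_all hl
    simp only [gate_eq, Bool.and_eq_true] at h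
    exact Nat.ble_eq.mp h.2.1
  rep_ok l i hl hi := by rw [S.tab_eq]; exact allFrom_all (allFrom_all repU_all hl : _) hi
  pts_ok p hp := by rw [S.tab_eq]; exact allFrom_all ptsU_all hp
  mv_ok l hl := by
    have h := allFrom_all mvU_all hl
    simp only [gate_eq, Bool.and_eq_true] at h
    rw [S.tab_eq]; exact h.1
  prod_eq := prodU

theorem validV : Sift.Valid S.M siftV 1408 177408000 where
  pos_k := by rw [S.tab_eq]; decide
  lev := by decide
  bs_zero := by rw [S.tab_eq]; exact misc_check.2.2.2.2.1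
  bs_lt l hl := by
    have h := allFrom_all mvV_all hl
    simp only [gate_eq, Bool.and_eq_true] at h
    exact Nat.ble_eq.mp h.2.1
  rep_ok l i hl hi := by rw [S.tab_eq]; exact allFrom_all (allFrom_all repV_all hl : _) hi
  pts_ok p hp := by rw [S.tab_eq]; exact allFrom_all ptsV_all hp
  mv_ok l hl := by
    have h := allFrom_all mvV_all hl
    simp only [gate_eq, Bool.and_eq_true] at h
    rw [S.tab_eq]; exact h.1
  prod_eq := prodV

/-- The image of a point under an element of the model. -/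
noncomputable def im (a : ↥(sub3 : Subgroup Cfsg.Spor.HN)) (p : Nat) : Nat := Sift.img S.M siftU a p

/-- The central involution in the model. -/
noncomputable def cQ : ↥(sub3 : Subgroup Cfsg.Spor.HN) := S.M.el wC

theorem coe_cQ : ((cQ S : sub3) : Cfsg.Spor.HN) = cen := by
  rw [cQ, QModel.el, DCoset.val, show wC % 65536 = 2 from rfl, show wC / 65536 = 0 from rfl]
  simp only [valW, show (0 : Nat) % 256 = 0 from rfl, show (0 : Nat) / 256 = 0 from rfl, mul_one]
  rw [Subgroup.coe_mul, S.q_x, ← pow_two]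

variable (hx4 : gen Cfsg.Spor.HN.Gen.x ^ 4 = (1 : Cfsg.Spor.HN)) (hC : Nat.card Cfsg.Spor.HN = 273030912000000)
  (hP : Nat.card ↥(sub3 : Subgroup Cfsg.Spor.HN) = 177408000)
include S hx4 hC hP

theorem im_mul (a b : ↥(sub3 : Subgroup Cfsg.Spor.HN)) {p : Nat} (hp : p < 1408) :
    im S (a * b) p = im S b (im S a p) :=
  have := finite_sub3 hx4 hC hP
  (validU S).img_mul (card_sub3 hx4 hC hP).le a b hp

theorem im_lt (a : ↥(sub3 : Subgroup Cfsg.Spor.HN)) {p : Nat} (hp : p < 1408) : im S a p < 1408 :=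
  have := finite_sub3 hx4 hC hP
  (validU S).img_lt (card_sub3 hx4 hC hP).le a hp

theorem im_one {p : Nat} (hp : p < 1408) : im S 1 p = p :=
  (validU S).img_evL hp [] (by simp)

theorem im_gens {p : Nat} (hp : p < 1408) : im S (S.M.q 2) p = DCoset.HN.tab.act 2 p ∧
    im S (yx S) p = actW DCoset.HN.tab.act p 0x2010003 ∧ im S (S.M.q 0) p = DCoset.HN.tab.act 0 p ∧
    im S (S.M.q 1) p = DCoset.HN.tab.act 1 p := by
  have hl : ∀ g, g < 6 → im S (S.M.q g) p = DCoset.HN.tab.act g p := by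
    intro g hg
    rw [← el_one_letter S g (by omega), im,
      (validU S).img_el hp (okWord_el S _ (by
        show lettersBelow 6 _ _ = true
        rw [show wLen (g * 65536 + 1) = 1 by show (g * 65536 + 1) % 65536 = 1; omega,
          show wBody (g * 65536 + 1) = g by show (g * 65536 + 1) / 65536 = g; omega, lettersBelow_succ]
        simp only [Bool.and_eq_true, Nat.blt, Nat.ble_eq]
        exact ⟨by omega, rfl⟩)), S.tab_eq, actW,
      show wLen (g * 65536 + 1) = 1 by show (g * 65536 + 1) % 65536 = 1; omega,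
      show wBody (g * 65536 + 1) = g by show (g * 65536 + 1) / 65536 = g; omega, foldW_succ,
      Nat.mod_eq_of_lt (show g < 256 by omega)]
    rfl
  refine ⟨hl 2 (by norm_num), ?_, hl 0 (by norm_num), hl 1 (by norm_num)⟩
  rw [← el_yx, im, (validU S).img_el hp (okWord_el S _ (by decide +kernel)), S.tab_eq]

/-- The stabiliser of point 0. -/
noncomputable def stab0 : Subgroup ↥(sub3 : Subgroup Cfsg.Spor.HN) where
  carrier := {a | im S a 0 = 0}
  one_mem' := im_one S hx4 hC hP (by norm_num)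
  mul_mem' {a b} ha hb := by
    show im S (a * b) 0 = 0
    rw [im_mul S hx4 hC hP a b (by norm_num), ha, hb]
  inv_mem' {a} ha := by
    have ha' : im S a 0 = 0 := ha
    show im S a⁻¹ 0 = 0
    conv_lhs => rw [← ha']
    rw [← im_mul S hx4 hC hP a a⁻¹ (by norm_num), mul_inv_cancel, im_one S hx4 hC hP (by norm_num)]

theorem grpU_eq : grpU S = stab0 S hx4 hC hP ∧ 177408000 ≤ Nat.card ↥(grpU S) * 1408 := by
  have := finite_sub3 hx4 hC hP
  obtain ⟨-, -, -, h0, h0'⟩ := xpoints
  have hle : grpU S ≤ stab0 S hx4 hC hP := by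
    refine (closure_le _).2 ?_
    rintro _ (rfl | rfl)
    · show im S _ 0 = 0
      rw [(im_gens S hx4 hC hP (by norm_num)).1]
      exact h0
    · show im S _ 0 = 0
      rw [(im_gens S hx4 hC hP (by norm_num)).2.1]
      exact h0'
  have hge : stab0 S hx4 hC hP ≤ grpU S := by
    intro a ha
    have ha' : im S a 0 = 0 := ha
    obtain ⟨f, hf, rfl⟩ := (validU S).exists_words (card_sub3 hx4 hC hP).le a
    have hw := (validU S).ok_words hf (l := 0) (d := siftU.k) (by omega)
    rw [im, (validU S).img_evL (by norm_num) _ hw, show siftU.k = 11 + 1 from rfl, Sift.Valid.words, apL,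
      List.foldl_append] at ha'
    change actW S.M.act (apL S.M.toTab 0 _) _ = 0 at ha'
    have hb0 : siftU.bs 0 = 0 := by decide +kernel
    have e0 := (validU S).rep_spec (l := 0) (by decide) (hf 0 (by decide))
    have hfix : apL S.M.toTab 0 (Sift.Valid.words (S := siftU) f (0 + 1) 11) = 0 := by
      have := (validU S).apL_words_fix hf (l := 1) (d := 11) (b := 0) (by decide) (by norm_num)
      rwa [hb0] at this
    rw [hfix] at ha'
    have e4 : actW S.M.act 0 (siftU.rep 0 (f 0)) = siftU.pt 0 (f 0) := by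
      have h := e0.2.2.2.1
      rwa [hb0] at h
    rw [e4] at ha'
    have hf0 : f 0 = 0 := by rw [← e0.2.2.2.2.1, ha']; exact misc_check.2.2.2.2.2.2.2.1
    refine list_prod_mem fun b hb => ?_
    obtain ⟨w, hwmem, rfl⟩ := List.mem_map.1 hb
    obtain ⟨j, -, hj, rfl⟩ := Sift.Valid.mem_words hwmem
    rcases Nat.eq_zero_or_pos j with rfl | hj0
    · rw [hf0, misc_check.2.2.2.2.2.2.1]
      exact one_mem _
    · have h := (allFrom_iff _ 1 11).1 spellU_all j hj0 (by change j < 0 + 12 at hj; omega)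
      exact spellU_sound S 256 _ (allFrom_all h (hf j (by change j < 0 + 12 at hj; change j < 12; omega)))
  have heq := le_antisymm hle hge
  refine ⟨heq, ?_⟩
  rw [heq, ← card_sub3 hx4 hC hP, ← Subgroup.card_mul_index (stab0 S hx4 hC hP)]
  refine Nat.mul_le_mul_left _ ?_
  rw [Subgroup.index_eq_card]
  refine le_trans (Nat.card_le_card_of_injective
    (fun q => (⟨Quotient.liftOn' q (fun a => im S a⁻¹ 0) ?_, ?_⟩ : Fin 1408)) ?_) (le_of_eq (Nat.card_fin _))
  · intro a b hab
    rw [QuotientGroup.leftRel_apply] at hab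
    have h : im S (a⁻¹ * b)⁻¹ 0 = 0 := inv_mem hab
    show im S a⁻¹ 0 = im S b⁻¹ 0
    conv_lhs => rw [← h, ← im_mul S hx4 hC hP _ _ (by norm_num)]
    congr 1
    group
  · induction q using QuotientGroup.induction_on with
    | _ a => exact im_lt S hx4 hC hP _ (by norm_num)
  · intro q r h
    induction q using QuotientGroup.induction_on with
    | _ a =>
      induction r using QuotientGroup.induction_on with
      | _ b =>
        have h' : im S a⁻¹ 0 = im S b⁻¹ 0 := congrArg Fin.val h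
        refine QuotientGroup.eq.2 ?_
        show im S (a⁻¹ * b) 0 = 0
        rw [im_mul S hx4 hC hP _ _ (by norm_num), h', ← im_mul S hx4 hC hP _ _ (by norm_num), inv_mul_cancel,
          im_one S hx4 hC hP (by norm_num)]

/-- What the certificate says about the cosets of `⟨x, y, z⟩`. -/
theorem cosets : ∃ label : Cfsg.Spor.HN ⧸ (sub3 : Subgroup Cfsg.Spor.HN) → Fin 9,
    (∀ (q : sub3) z, label ((q : Cfsg.Spor.HN) • z) = label z) ∧
    (∀ z w, label z = label w → ∃ q : sub3, z = (q : Cfsg.Spor.HN) • w) ∧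
    (∀ m : Fin 9, Nat.card {z // label z = m} = DCoset.HN.cover.idx m) ∧
    (∀ z, Nat.card {q : sub3 // (q : Cfsg.Spor.HN) • z = z} * DCoset.HN.cover.idx (label z) = 177408000) ∧
    (∀ g : Cfsg.Spor.HN, (label (QuotientGroup.mk g) : Nat) = 0 ↔ g ∈ sub3) := by
  have := finite_sub3 hx4 hC hP
  set ι := (sub3 : Subgroup Cfsg.Spor.HN).subtype with hι
  have hr : ι.range = sub3 := Subgroup.range_subtype _
  have hV : DCoset.HN.cover.Valid DCoset.HN.steps DCoset.HN.rules S.M.toTab 177408000 := by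
    rw [S.tab_eq]; exact DCoset.HN.valid
  obtain ⟨pt, label, h1, h2, h3, h4, h5⟩ := Cover.suborbits ι S.T (card_sub3 hx4 hC hP).le S.genQ S.genG S.sound hV
    S.holds (by rw [DCoset.HN.idx_sum, hr, index_sub3 hx4 hC hP])
  let e : Cfsg.Spor.HN ⧸ ι.range ≃ Cfsg.Spor.HN ⧸ (sub3 : Subgroup Cfsg.Spor.HN) :=
    Subgroup.quotientEquivOfEq hr
  have he : ∀ (g : Cfsg.Spor.HN) z, e.symm (g • z) = g • e.symm z := by
    intro g z
    induction z using QuotientGroup.induction_on with
    | _ a => rfl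
  refine ⟨fun z => label (e.symm z), fun q z => ?_, fun z w h => ?_, fun m => ?_, fun z => ?_, fun g => ?_⟩
  · show label (e.symm _) = _
    rw [he]
    exact h1 q _
  · obtain ⟨q, hq⟩ := h2 (e.symm z)
    obtain ⟨r, hr'⟩ := h2 (e.symm w)
    change label (e.symm z) = label (e.symm w) at h
    refine ⟨q * r⁻¹, e.symm.injective ?_⟩
    rw [he, hq, hr', h, smul_smul]
    simp [hι, mul_assoc]
  · rw [← h3 m]
    exact Nat.card_congr (e.symm.subtypeEquiv fun z => Iff.rfl)
  · obtain ⟨q, hq⟩ := h2 (e.symm z)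
    show _ * DCoset.HN.cover.idx (label (e.symm z)) = _
    generalize label (e.symm z) = m at hq ⊢
    rw [show Nat.card {r : sub3 // (r : Cfsg.Spor.HN) • z = z} =
        Nat.card ↥((MulAction.stabilizer Cfsg.Spor.HN (pt m)).comap ι) from
      Nat.card_congr ((MulAut.conj q⁻¹).toEquiv.subtypeEquiv fun r => ?_)]
    · rw [h4]; exact card_sub3 hx4 hC hP
    rw [Subgroup.mem_comap, MulAction.mem_stabilizer_iff, ← e.symm.injective.eq_iff, he, hq]
    show (r : Cfsg.Spor.HN) • _ = _ ↔ ι (q⁻¹ * r * q⁻¹⁻¹) • _ = _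
    rw [inv_inv, map_mul, map_mul, map_inv, mul_smul, mul_smul, inv_smul_eq_iff]
    rfl
  · show (label (QuotientGroup.mk g : Cfsg.Spor.HN ⧸ ι.range) : Nat) = 0 ↔ _
    constructor
    · intro h
      obtain ⟨q, hq⟩ := h2 (QuotientGroup.mk g)
      rw [h5 _ h] at hq
      have := QuotientGroup.eq.1 hq
      rw [hr] at this
      have hh := mul_mem (mul_mem q.2 (one_mem sub3)) (inv_mem this)
      simpa [hι, mul_assoc] using hh
    · intro hg
      have h0 : ∀ m : Fin 9, (m : Nat) = 0 → label (QuotientGroup.mk g : Cfsg.Spor.HN ⧸ ι.range) = m := by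
        intro m hm
        have e1 : (QuotientGroup.mk g : Cfsg.Spor.HN ⧸ ι.range) = ι ⟨g, hg⟩ • pt m := by
          rw [h5 m hm]
          show (QuotientGroup.mk g : Cfsg.Spor.HN ⧸ ι.range) = QuotientGroup.mk (g * 1)
          rw [mul_one]
        rw [e1, h1]
        obtain ⟨q, hq⟩ := h2 (pt m)
        by_contra hne
        have hidx : DCoset.HN.cover.idx m = 1 := by rw [hm]; exact (idx_check m).1
        obtain ⟨z, hz⟩ : Nonempty {z // label z = m} := (Nat.card_pos_iff.1 (by rw [h3 m, hidx]; norm_num)).1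
        obtain ⟨q', hq'⟩ := h2 z
        rw [hz] at hq'
        exact hne (by rw [← h1 q' (pt m), ← hq', hz])
      rw [h0 ⟨0, by norm_num⟩ rfl]

/-- Elements of `⟨x, y, z⟩` commuting with `y` and its conjugate are central. -/
theorem cent_U (r : ↥(sub3 : Subgroup Cfsg.Spor.HN)) (hy : Commute r (S.M.q 2)) (hyx : Commute r (yx S)) :
    r = 1 ∨ r = cQ S := by
  have := finite_sub3 hx4 hC hP
  have hcomm : ∀ u ∈ grpU S, Commute r u := by
    intro u hu
    have hle : grpU S ≤ centralizer {r} := (closure_le _).2 (by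
      rintro _ (rfl | rfl) <;> rw [SetLike.mem_coe, mem_centralizer_singleton_iff]
      exacts [hy.eq.symm, hyx.eq.symm])
    exact ((mem_centralizer_singleton_iff.1 (hle hu)) : u * r = r * u).symm
  have ha : im S r 0 < 4 := by
    have hlt := im_lt S hx4 hC hP r (show (0 : Nat) < 1408 by norm_num)
    have h := allFrom_all fixU_all hlt
    by_contra hne
    obtain ⟨e1, e2, -, -⟩ := im_gens S hx4 hC hP hlt
    obtain ⟨f1, f2, -, -⟩ := im_gens S hx4 hC hP (show (0 : Nat) < 1408 by norm_num)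
    obtain ⟨-, -, -, x2, x3⟩ := xpoints
    have k1 : im S (S.M.q 2) (im S r 0) = im S r 0 := by
      rw [← im_mul S hx4 hC hP _ _ (by norm_num), hy.eq, im_mul S hx4 hC hP _ _ (by norm_num), f1]
      exact congrArg _ x2
    have k2 : im S (yx S) (im S r 0) = im S r 0 := by
      rw [← im_mul S hx4 hC hP _ _ (by norm_num), hyx.eq, im_mul S hx4 hC hP _ _ (by norm_num), f2]
      exact congrArg _ x3
    rw [e1] at k1
    rw [e2] at k2
    rw [show Nat.blt (im S r 0) 4 = false by
      rcases Bool.eq_false_or_eq_true (Nat.blt (im S r 0) 4) with h | h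
      · exact absurd (Nat.ble_eq.mp h) hne
      · exact h] at h
    simp only [k1, k2, Nat.beq_refl, gate_eq, Bool.and_self] at h
    exact Bool.false_ne_true h
  have hsel : ∀ l, l < siftU.k → siftU.root (siftU.sel l) < 1408 ∧ siftU.sel l ≤ 1 ∧
      spellU 64 (siftU.mv l) = true := by
    intro l hl
    have h := allFrom_all mvU_all hl
    simp only [gate_eq, Bool.and_eq_true] at h
    exact ⟨Nat.ble_eq.mp h.2.2.1, Nat.ble_eq.mp h.2.2.2.1, h.2.2.2.2⟩
  have hb := allFrom_all (allFrom_all candU ha : _) (im_lt S hx4 hC hP r (show (4 : Nat) < 1408 by norm_num))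
  rw [← S.tab_eq] at hb
  obtain ⟨ws, hok, hr, hgood⟩ := (validU S).cand_sound (card_sub3 hx4 hC hP).le goodU r (fun l hl => (hsel l hl).1)
    (fun l hl => hcomm _ (spellU_sound S 64 _ (hsel l hl).2.2)) (fun l hl => by
      rcases Nat.le_one_iff_eq_zero_or_eq_one.1 (hsel l hl).2.1 with h | h <;> rw [h]
      · rw [misc_check.1, if_pos rfl]; rfl
      · rw [misc_check.2.1, if_neg one_ne_zero]; rfl) hb
  rw [goodU, force_eq, ← S.tab_eq, Sift.tupL_eq ws hok, ← hr] at hgood
  cases h1 : Nat.beq (S.M.tup r) S.M.base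
  · rw [h1] at hgood
    have h2 := Nat.eq_of_beq_eq_true hgood
    rw [S.tab_eq, app_el S (okWord_el S _ (by decide +kernel))] at h2
    exact Or.inr (S.M.inj h2)
  · exact Or.inl (S.M.inj ((Nat.eq_of_beq_eq_true h1).trans S.M.one.symm))

omit S hx4 hC hP in
/-- An element fixing a coset. -/
theorem fixes_of_commute {w : Cfsg.Spor.HN} (u : ↥(sub3 : Subgroup Cfsg.Spor.HN))
    (h : Commute w (u : Cfsg.Spor.HN)) :
    (u : Cfsg.Spor.HN) • (QuotientGroup.mk w : Cfsg.Spor.HN ⧸ (sub3 : Subgroup Cfsg.Spor.HN)) =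
      QuotientGroup.mk w := by
  refine QuotientGroup.eq.2 ?_
  show ((u : Cfsg.Spor.HN) * w)⁻¹ * w ∈ sub3
  rw [← h.eq, mul_inv_rev, inv_mul_cancel_right]
  exact inv_mem u.2

theorem fact_cent (g : Cfsg.Spor.HN) (hg : Commute g cen) : g ∈ sub3 := by
  have hfin : Finite Cfsg.Spor.HN := Nat.finite_of_card_ne_zero (by rw [hC]; norm_num)
  obtain ⟨label, h1, h2, h3, -, h5⟩ := cosets S hx4 hC hP
  set H : Subgroup Cfsg.Spor.HN := centralizer ({cen} : Set Cfsg.Spor.HN) with hH
  have hle : sub3 ≤ H := by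
    rw [map_le_iff_le_comap, closure_le]
    rintro _ (rfl | rfl | rfl) <;> rw [SetLike.mem_coe, mem_comap, hH, mem_centralizer_singleton_iff]
    exacts [cen_x.eq.symm, (cen_y hx4).eq.symm, (cen_z hx4).eq.symm]
  set b : Cfsg.Spor.HN ⧸ (sub3 : Subgroup Cfsg.Spor.HN) := QuotientGroup.mk 1 with hb
  set O := MulAction.orbit H b with hO
  have hinv : ∀ z w, label z = label w → w ∈ O → z ∈ O := by
    intro z w h hw
    obtain ⟨q, rfl⟩ := h2 z w h
    exact MulAction.mem_orbit_of_mem_orbit (⟨(q : Cfsg.Spor.HN), hle q.2⟩ : H) hw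
  classical
  set A : Finset Nat := (Finset.range 9).filter fun m => ∃ z ∈ O, (label z : Nat) = m with hA
  have hOcard : O.ncard = ∑ m ∈ A, DCoset.HN.cover.idx m := by
    have hfinq : Fintype (Cfsg.Spor.HN ⧸ (sub3 : Subgroup Cfsg.Spor.HN)) := Fintype.ofFinite _
    rw [Set.ncard_eq_toFinset_card', Finset.card_eq_sum_card_fiberwise (f := fun z => (label z : Nat)) (t := A)
      (fun z hz => by
        simp only [Finset.mem_coe, Set.mem_toFinset] at hz
        simp only [hA, Finset.mem_coe, Finset.mem_filter, Finset.mem_range]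
        exact ⟨(label z).2, z, hz, rfl⟩)]
    refine Finset.sum_congr rfl fun m hm => ?_
    simp only [hA, Finset.mem_filter, Finset.mem_range] at hm
    obtain ⟨hm9, w, hw, hwm⟩ := hm
    rw [← h3 ⟨m, hm9⟩, Nat.card_eq_fintype_card, Fintype.card_subtype]
    refine congrArg Finset.card (Finset.ext fun z => ?_)
    simp only [Finset.mem_filter, Set.mem_toFinset, Finset.mem_univ, true_and]
    exact ⟨fun h => Fin.ext h.2, fun h => ⟨hinv z w (Fin.ext (by rw [h]; exact hwm.symm)) hw, by rw [h]⟩⟩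
  have h0A : 0 ∈ A := by
    simp only [hA, Finset.mem_filter, Finset.mem_range]
    exact ⟨by norm_num, b, MulAction.mem_orbit_self b, (h5 1).2 (one_mem _)⟩
  have hidx : O.ncard * H.index = 1539000 := by
    rw [← index_sub3 hx4 hC hP, ← Subgroup.relIndex_mul_index hle, Subgroup.relIndex, hO,
      ← MulAction.index_stabilizer H b]
    congr 2
    ext h
    rw [MulAction.mem_stabilizer_iff, Subgroup.mem_subgroupOf]
    show (QuotientGroup.mk ((h : Cfsg.Spor.HN) * 1) : Cfsg.Spor.HN ⧸ sub3) = QuotientGroup.mk 1 ↔ _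
    rw [QuotientGroup.eq, mul_one, mul_one, inv_mem_iff]
  rcases sizes_check A (by simp [hA]) h0A ⟨H.index, by rw [← hOcard, hidx]⟩ with h | h
  · have hgo : (QuotientGroup.mk g : Cfsg.Spor.HN ⧸ sub3) ∈ O :=
      ⟨⟨g, mem_centralizer_singleton_iff.2 hg.eq⟩, QuotientGroup.eq.2 (by simp)⟩
    have : (label (QuotientGroup.mk g) : Nat) ∈ A := by
      simp only [hA, Finset.mem_filter, Finset.mem_range]
      exact ⟨(label _).2, _, hgo, rfl⟩
    rw [h, Finset.mem_singleton] at this
    exact (h5 g).1 this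
  · exfalso
    rw [hOcard, h, show ∑ m ∈ Finset.range 9, DCoset.HN.cover.idx m = 1539000 by decide +kernel] at hidx
    have htop : H = ⊤ := Subgroup.index_eq_one.1 (by omega)
    have hcen : cen ∈ center Cfsg.Spor.HN := mem_center_iff.2 fun a =>
      mem_centralizer_singleton_iff.1 (htop ▸ mem_top a : a ∈ H)
    -- then `t` equals its inverse
    have e : gt = (gt)⁻¹ := by rw [← cen_t, mul_assoc, mem_center_iff.1 hcen gt, inv_mul_cancel_left]
    have e2 : gt * gt = 1 := by
      calc gt * gt = gt * (gt)⁻¹ := by rw [← e]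
        _ = 1 := mul_inv_cancel _
    have e1 : (gt : Cfsg.Spor.HN) = 1 := by
      calc (gt : Cfsg.Spor.HN) = gt ^ 5 * ((gt * gt) * (gt * gt))⁻¹ := by group
        _ = 1 := by rw [t_pow_five, e2]; group
    exact t_not_mem hx4 hC hP (e1 ▸ one_mem _)

theorem fact_small (p : Cfsg.Spor.HN) (hp : p ∈ sub3) (hx : Commute p gx) (hy : Commute p gy) :
    p ∈ zpowers cen := by
  have h := cent_U S hx4 hC hP ⟨p, hp⟩ (Subtype.ext (by rw [Subgroup.coe_mul, Subgroup.coe_mul, S.q_y]; exact hy.eq))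
    (Subtype.ext (by
      rw [Subgroup.coe_mul, Subgroup.coe_mul, coe_yx]
      exact ((hx.inv_right.mul_right hy).mul_right hx).eq))
  rcases h with h | h
  · rw [show p = 1 from congrArg Subtype.val h]; exact one_mem _
  · rw [show p = cen from (congrArg Subtype.val h).trans (coe_cQ S)]; exact mem_zpowers _

theorem fact_eleven : ∃ v, orderOf v = 11 ∧ Commute v cen ∧ ∀ w, orderOf w = 2 → Commute w v → w = cen := by
  have := finite_sub3 hx4 hC hP
  set v : ↥(sub3 : Subgroup Cfsg.Spor.HN) := S.M.el wV with hv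
  have hokV : S.M.toTab.okWord wV = true := okWord_el S _ (by decide +kernel)
  have hpow : ∀ n, powV n = S.M.tup (v ^ n) := by
    intro n
    induction n with
    | zero => rw [pow_zero, S.M.one, S.tab_eq]; rfl
    | succ n ih =>
      show DCoset.HN.tab.app (powV n) wV = _
      rw [ih, ← S.tab_eq, Sift.app_tup hokV, ← hv, ← pow_succ]
  have h11 : v ^ 11 = 1 := S.M.inj (by rw [← hpow, wV_order.1, S.M.one, S.tab_eq])
  have hne : v ≠ 1 := fun h => wV_order.2 (by rw [hpow, h, one_pow, S.M.one, S.tab_eq])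
  have := Fact.mk (show Nat.Prime 11 by norm_num)
  have hord : orderOf v = 11 := orderOf_eq_prime h11 hne
  refine ⟨(v : Cfsg.Spor.HN), by rw [Subgroup.orderOf_coe]; exact hord, ?_, fun w hw2 hwv => ?_⟩
  · have hle : sub3 ≤ centralizer ({cen} : Set Cfsg.Spor.HN) := by
      rw [map_le_iff_le_comap, closure_le]
      rintro _ (rfl | rfl | rfl) <;> rw [SetLike.mem_coe, mem_comap, mem_centralizer_singleton_iff]
      exacts [cen_x.eq.symm, (cen_y hx4).eq.symm, (cen_z hx4).eq.symm]
    exact mem_centralizer_singleton_iff.1 (hle v.2)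
  obtain ⟨label, -, -, -, h4, h5⟩ := cosets S hx4 hC hP
  have hwP : w ∈ sub3 := by
    by_contra hne'
    set z : Cfsg.Spor.HN ⧸ (sub3 : Subgroup Cfsg.Spor.HN) := QuotientGroup.mk w with hz
    let St : Subgroup ↥(sub3 : Subgroup Cfsg.Spor.HN) :=
      (MulAction.stabilizer Cfsg.Spor.HN z).comap (sub3 : Subgroup Cfsg.Spor.HN).subtype
    have hc : Nat.card ↥St * DCoset.HN.cover.idx (label z) = 177408000 := by
      rw [← h4 z]; rfl
    have hdvd : 11 ∣ Nat.card ↥St :=
      hord ▸ Subgroup.orderOf_dvd_natCard St (fixes_of_commute v hwv)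
    refine (idx_check (label z)).2.2.2 (fun h0 => hne' ((h5 w).1 h0)) ?_
    rw [← hc]
    exact Nat.mul_dvd_mul_right hdvd _
  set r : ↥(sub3 : Subgroup Cfsg.Spor.HN) := ⟨w, hwP⟩ with hr
  have hrv : Commute r v := Subtype.ext hwv.eq
  have hr2 : r * r = 1 := Subtype.ext (by
    show w * w = 1
    rw [← pow_two, ← hw2, pow_orderOf_eq_one])
  have hmv : ∀ l, l < siftV.k → siftV.sel l = 0 ∧ S.M.el (siftV.mv l) = v ^ l := by
    intro l hl
    have h := allFrom_all mvV_all hl
    simp only [gate_eq, Bool.and_eq_true] at h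
    have hg := (validV S).mv_ok l hl
    simp only [Sift.checkMv, force_eq, gate_eq, Bool.and_eq_true] at hg
    refine ⟨Nat.eq_of_beq_eq_true h.2.2.1, S.M.inj ?_⟩
    rw [← hpow, ← app_el S hg.1]
    exact Nat.eq_of_beq_eq_true h.2.2.2
  have hcand := allFrom_all candV ((validV S).img_lt (card_sub3 hx4 hC hP).le r (show (0 : Nat) < 1408 by norm_num))
  rw [← S.tab_eq] at hcand
  obtain ⟨ws, hok, hws, hgood⟩ := (validV S).cand_sound (card_sub3 hx4 hC hP).le goodV r
    (fun l hl => by rw [(hmv l hl).1, misc_check.2.2.1]; norm_num)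
    (fun l hl => by rw [(hmv l hl).2]; exact hrv.pow_right l)
    (fun l hl => by rw [(hmv l hl).1, misc_check.2.2.1, if_pos rfl]) hcand
  rw [goodV] at hgood
  cases hg : goodU ws
  · rw [hg] at hgood
    rw [← S.tab_eq, Sift.tupL_eq (ws ++ ws) (fun x hx => (List.mem_append.1 hx).elim (hok x) (hok x)),
      Sift.evL_append, ← hws, hr2, S.M.one, Nat.beq_refl] at hgood
    exact absurd hgood Bool.false_ne_true
  · rw [goodU, force_eq, ← S.tab_eq, Sift.tupL_eq ws hok, ← hws] at hg
    cases h1 : Nat.beq (S.M.tup r) S.M.base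
    · rw [h1] at hg
      have h2 := Nat.eq_of_beq_eq_true hg
      rw [S.tab_eq, app_el S (okWord_el S _ (by decide +kernel))] at h2
      exact (congrArg Subtype.val (S.M.inj h2)).trans (coe_cQ S)
    · exfalso
      have h := congrArg Subtype.val (S.M.inj ((Nat.eq_of_beq_eq_true h1).trans S.M.one.symm))
      rw [show w = 1 from h, orderOf_one] at hw2
      exact absurd hw2 (by norm_num)

theorem fact_five (w : Cfsg.Spor.HN) (hy : Commute w gy) (hyx : Commute w ((gx)⁻¹ * gy * gx)) (h5 : w ^ 5 = 1) :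
    w ∈ zpowers gt := by
  have := finite_sub3 hx4 hC hP
  obtain ⟨label, h1, h2, -, h4, h0⟩ := cosets S hx4 hC hP
  obtain ⟨heq, hcard⟩ := grpU_eq S hx4 hC hP
  have htx : Commute gt ((gx)⁻¹ * gy * gx) := by
    have h : Commute ((gx)⁻¹ * gt * gx) ((gx)⁻¹ * gy * gx) := by
      simpa using t_comm_y.map (MulAut.conj (gx)⁻¹).toMonoidHom
    rw [t_conj_x] at h
    have h2 : gt = ((gt ^ 2)⁻¹) ^ 2 := by
      rw [inv_pow, ← pow_mul]
      exact eq_inv_of_mul_eq_one_left (by rw [← pow_succ']; exact t_pow_five)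
    rw [h2]
    exact h.pow_left 2
  -- cosets fixed by the generators
  let St : Cfsg.Spor.HN ⧸ (sub3 : Subgroup Cfsg.Spor.HN) → Subgroup ↥(sub3 : Subgroup Cfsg.Spor.HN) :=
    fun z => (MulAction.stabilizer Cfsg.Spor.HN z).comap (sub3 : Subgroup Cfsg.Spor.HN).subtype
  have hfix : ∀ g : Cfsg.Spor.HN, Commute g gy → Commute g ((gx)⁻¹ * gy * gx) →
      grpU S ≤ St (QuotientGroup.mk g) := by
    intro g h h'
    refine (closure_le _).2 ?_
    rintro _ (rfl | rfl)
    · exact fixes_of_commute _ (by rw [S.q_y]; exact h)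
    · exact fixes_of_commute _ (by rw [coe_yx]; exact h')
  have hsmall : ∀ z, grpU S ≤ St z → (label z : Nat) ≤ 1 := by
    intro z hz
    refine (idx_check (label z)).2.2.1 ?_
    have hle : Nat.card ↥(grpU S) ≤ Nat.card ↥(St z) := Subgroup.card_le_of_le hz
    have h := h4 z
    change Nat.card ↥(St z) * _ = _ at h
    by_contra hgt
    have : Nat.card ↥(grpU S) * 1409 ≤ Nat.card ↥(St z) * DCoset.HN.cover.idx (label z) :=
      Nat.mul_le_mul hle (by omega)
    have : 0 < Nat.card ↥(grpU S) := Nat.card_pos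
    omega
  set z0 : Cfsg.Spor.HN ⧸ (sub3 : Subgroup Cfsg.Spor.HN) := QuotientGroup.mk gt with hz0
  have hl0 : (label z0 : Nat) = 1 := by
    have := hsmall z0 (hfix gt t_comm_y htx)
    have : (label z0 : Nat) ≠ 0 := fun h => t_not_mem hx4 hC hP ((h0 gt).1 h)
    omega
  have hS0 : St z0 = grpU S := by
    refine (Subgroup.eq_of_le_of_card_ge (hfix gt t_comm_y htx) ?_).symm
    have h := h4 z0
    rw [hl0, (idx_check 0).2.1] at h
    change Nat.card ↥(St z0) * 1408 = _ at h
    show Nat.card ↥(St z0) ≤ Nat.card ↥(grpU S)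
    omega
  obtain ⟨k, hk⟩ : ∃ k : ℤ, (gt ^ k)⁻¹ * w ∈ sub3 := by
    set z : Cfsg.Spor.HN ⧸ (sub3 : Subgroup Cfsg.Spor.HN) := QuotientGroup.mk w with hz
    have hUz : grpU S ≤ St z := hfix w hy hyx
    rcases Nat.le_one_iff_eq_zero_or_eq_one.1 (hsmall z hUz) with hl | hl
    · exact ⟨0, by simpa using (h0 w).1 hl⟩
    obtain ⟨p, hp⟩ := h2 z z0 (Fin.ext (hl.trans hl0.symm))
    set j := im S p⁻¹ 0 with hj
    have hfixj : ∀ u ∈ grpU S, im S u j = j := by
      intro u hu
      have hu' : p⁻¹ * u * p ∈ grpU S := by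
        rw [← hS0]
        have h : (u : Cfsg.Spor.HN) • z = z := hUz hu
        show (((p⁻¹ * u * p : sub3)) : Cfsg.Spor.HN) • z0 = z0
        rw [Subgroup.coe_mul, Subgroup.coe_mul, Subgroup.coe_inv, mul_smul, mul_smul, ← hp, h, hp,
          inv_smul_smul]
      rw [heq] at hu'
      rw [hj, ← im_mul S hx4 hC hP _ _ (by norm_num), show p⁻¹ * u = p⁻¹ * u * p * p⁻¹ by group,
        im_mul S hx4 hC hP _ _ (by norm_num), show im S (p⁻¹ * u * p) 0 = 0 from hu']
    have hjlt : j < 1408 := im_lt S hx4 hC hP _ (by norm_num)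
    have hj4 : j < 4 := by
      have h := allFrom_all fixU_all hjlt
      by_contra hne
      obtain ⟨e1, e2, -, -⟩ := im_gens S hx4 hC hP hjlt
      have k1 := hfixj _ (subset_closure (Or.inl rfl))
      have k2 := hfixj _ (subset_closure (Or.inr rfl))
      rw [e1] at k1
      rw [e2] at k2
      rw [show Nat.blt j 4 = false by
        rcases Bool.eq_false_or_eq_true (Nat.blt j 4) with h | h
        · exact absurd (Nat.ble_eq.mp h) hne
        · exact h] at h
      simp only [k1, k2, Nat.beq_refl, gate_eq, Bool.and_self] at h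
      exact Bool.false_ne_true h
    -- a power of `x` with the same image of the point
    obtain ⟨a, k, ha, hak⟩ : ∃ (a : ↥(sub3 : Subgroup Cfsg.Spor.HN)) (k : ℤ), im S a 0 = j ∧
        (a : Cfsg.Spor.HN)⁻¹ * gt * a = gt ^ k := by
      obtain ⟨x0, x1, x2, -, -⟩ := xpoints
      obtain ⟨-, -, gx0, gx1⟩ := im_gens S hx4 hC hP (show (0 : Nat) < 1408 by norm_num)
      have hcx : ((S.M.q 1 : sub3) : Cfsg.Spor.HN) = (gx)⁻¹ := by
        rw [(q_inv S).1, Subgroup.coe_inv, S.q_x]
      interval_cases j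
      · exact ⟨1, 1, im_one S hx4 hC hP (by norm_num), by simp⟩
      · refine ⟨S.M.q 1, 2, gx1.trans x1, ?_⟩
        rw [hcx, inv_inv]
        have ht3 : gt = (gt ^ 3) ^ 2 := by rw [← pow_mul, show 3 * 2 = 5 + 1 from rfl, pow_succ, t_pow_five, one_mul]
        calc gx * gt * (gx)⁻¹ = gx * ((gt ^ 3) ^ 2) * (gx)⁻¹ := by rw [← ht3]
          _ = gx * ((gt ^ 2)⁻¹) ^ 2 * (gx)⁻¹ * (gx * (gx)⁻¹) := by
            rw [mul_inv_cancel, mul_one,
              inv_eq_of_mul_eq_one_right (show gt ^ 2 * gt ^ 3 = 1 by rw [← pow_add]; exact t_pow_five)]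
          _ = gx * (((gx)⁻¹ * gt * gx) ^ 2) * (gx)⁻¹ * (gx * (gx)⁻¹) := by rw [t_conj_x]
          _ = gt ^ (2 : ℤ) := by rw [zpow_two]; simp only [pow_two]; group
      · refine ⟨S.M.q 0, -2, gx0.trans x0, ?_⟩
        rw [S.q_x, t_conj_x, zpow_neg]
        rfl
      · refine ⟨S.M.q 0 * S.M.q 0, -1, ?_, ?_⟩
        · rw [im_mul S hx4 hC hP _ _ (by norm_num), gx0, x0,
            (im_gens S hx4 hC hP (show (2 : Nat) < 1408 by norm_num)).2.2.1]
          rwa [x0] at x2
        · rw [Subgroup.coe_mul, S.q_x, ← pow_two, cen_t, zpow_neg_one]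
    have hh : p⁻¹ * a⁻¹ ∈ grpU S := by
      rw [heq]
      show im S (p⁻¹ * a⁻¹) 0 = 0
      rw [im_mul S hx4 hC hP _ _ (by norm_num), ← hj, ← ha, ← im_mul S hx4 hC hP _ _ (by norm_num), mul_inv_cancel,
        im_one S hx4 hC hP (by norm_num)]
    rw [← hS0] at hh
    have hh' : ((p : Cfsg.Spor.HN)⁻¹ * (a : Cfsg.Spor.HN)⁻¹) • z0 = z0 := hh
    have hz1 : z = (a : Cfsg.Spor.HN)⁻¹ • z0 := by
      rw [hp]
      conv_lhs => rw [← hh', smul_smul, ← mul_assoc, mul_inv_cancel, one_mul]
    refine ⟨k, ?_⟩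
    rw [hz0, hz] at hz1
    have hm : w⁻¹ * ((a : Cfsg.Spor.HN)⁻¹ * gt) ∈ sub3 := QuotientGroup.eq.1 hz1
    have := mul_mem hm a.2
    rw [show w⁻¹ * ((a : Cfsg.Spor.HN)⁻¹ * gt) * (a : Cfsg.Spor.HN) = w⁻¹ * gt ^ k by
      rw [← hak]; group] at this
    have := inv_mem this
    rwa [mul_inv_rev, inv_inv] at this
  set r : ↥(sub3 : Subgroup Cfsg.Spor.HN) := ⟨(gt ^ k)⁻¹ * w, hk⟩ with hr
  have hry : Commute r (S.M.q 2) := Subtype.ext (by
    rw [Subgroup.coe_mul, Subgroup.coe_mul, S.q_y]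
    exact (((t_comm_y.zpow_left k).inv_left).mul_left hy).eq)
  have hryx : Commute r (yx S) := Subtype.ext (by
    rw [Subgroup.coe_mul, Subgroup.coe_mul, coe_yx]
    exact (((htx.zpow_left k).inv_left).mul_left hyx).eq)
  rcases cent_U S hx4 hC hP r hry hryx with h | h
  · have : (gt ^ k)⁻¹ * w = 1 := congrArg Subtype.val h
    rw [← eq_of_inv_mul_eq_one this]
    exact zpow_mem (mem_zpowers _) k
  · have h' : (gt ^ k)⁻¹ * w = cen := (congrArg Subtype.val h).trans (coe_cQ S)
    have hw : w = gt ^ k * cen := by rw [← h']; group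
    have hck : cen * gt ^ k * cen = (gt ^ k)⁻¹ := by
      have := conj_zpow (i := k) (a := (cen : Cfsg.Spor.HN)⁻¹) (b := gt)
      rw [inv_inv, cen_t, cen_inv hx4, inv_zpow] at this
      exact this.symm
    have hw2 : w * w = 1 := by
      rw [hw, show gt ^ k * cen * (gt ^ k * cen) = gt ^ k * (cen * gt ^ k * cen) by group, hck, mul_inv_cancel]
    have hw1 : w = 1 := by
      calc w = w * (w * w) * (w * w) := by rw [hw2, mul_one, mul_one]
        _ = w ^ 5 := by simp only [pow_succ, pow_zero, one_mul, mul_assoc]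
        _ = 1 := h5
    rw [hw1]
    exact one_mem _

omit hx4 hC hP in
/-- The facts used for the outer automorphism group. -/
theorem facts (hG : Cfsg.IsHN Cfsg.Spor.HN)
    (hK : ∃ K : Subgroup sub3, K.Normal ∧ K.index = 2 ∧ Cfsg.IsNonsplitDoubleCover K ↥Cfsg.Spor.HS) : Facts :=
  have h4 := x_pow_four hG
  have hp : Nat.card ↥(sub3 : Subgroup Cfsg.Spor.HN) = 177408000 := by
    obtain ⟨K, -, hK2, hKc⟩ := hK
    rw [← Subgroup.card_mul_index K, card_cover hKc, hK2]
  ⟨hG, hK, fact_cent S h4 hG.2 hp, fact_eleven S h4 hG.2 hp,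
    fun w h1 h2 h3 _ => fact_five S h4 hG.2 hp w h1 h2 h3, fact_small S h4 hG.2 hp⟩

omit hx4 hC hP in
/-- The outer automorphism group has order two, granted a model. -/
theorem card_out_of_setup (hG : Cfsg.IsHN Cfsg.Spor.HN)
    (hK : ∃ K : Subgroup sub3, K.Normal ∧ K.index = 2 ∧ Cfsg.IsNonsplitDoubleCover K ↥Cfsg.Spor.HS) :
    Nat.card (Cfsg.Out Cfsg.Spor.HN) = 2 :=
  card_out (facts S hG hK)

end Cfsg.Agent.HNOut
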