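import Cfsg.Agent.HNMult.Main

/-!
The outer automorphism of the presented Harada–Norton group: it fixes `x` and `y`, sends `z` to `z * x ^ 2` and `t`
to `t ^ 3`. Its square is conjugation by `x ^ 2`.
-/

set_option autoImplicit false
set_option linter.constructorNameAsVariable false

namespace Cfsg.Agent.HNOut

open Subgroup HNMult

local notation "gx" => gen Cfsg.Spor.HN.Gen.x
local notation "gy" => gen Cfsg.Spor.HN.Gen.y
local notation "gz" => gen Cfsg.Spor.HN.Gen.z
local notation "gt" => gen Cfsg.Spor.HN.Gen.t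

/-- The central involution of `⟨x, y, z⟩`. -/
abbrev cen : Cfsg.Spor.HN := gx ^ 2

theorem z_sq : gz * gz = 1 := by
  rw [← pow_two]; exact rel_list.2.2.2.2.2.2.1

theorem z_inv : (gz)⁻¹ = gz := inv_eq_of_mul_eq_one_right z_sq

theorem z_conj_x : gz * gx * gz = (gx)⁻¹ := by
  refine eq_inv_of_mul_eq_one_left ?_
  have h := rel_list.2.2.2.2.2.2.2.1
  rw [pow_two] at h
  rw [← h]
  group

theorem t_conj_x : (gx)⁻¹ * gt * gx = (gt ^ 2)⁻¹ :=
  eq_inv_of_mul_eq_one_left rel_list.2.2.2.2.2.2.2.2.2.2.2.1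

theorem t_pow_five : gt ^ 5 = 1 := rel_list.2.2.2.2.2.2.2.2.2.2.1

theorem t_comm_y : Commute gt gy := by
  have h : (gt)⁻¹ * (gy)⁻¹ * gt * gy = 1 := rel_list.2.2.2.2.2.2.2.2.2.2.2.2.1
  calc gt * gy = gy * gt * ((gt)⁻¹ * (gy)⁻¹ * gt * gy) := by group
    _ = gy * gt := by rw [h, mul_one]

variable (h4 : gx ^ 4 = (1 : Cfsg.Spor.HN))
include h4

theorem cen_sq : cen * cen = 1 := by
  rw [← pow_add]; exact h4

theorem cen_inv : cen⁻¹ = cen := inv_eq_of_mul_eq_one_right (cen_sq h4)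

theorem cen_y : Commute cen gy := by
  have h : gx ^ 2 * gy * gx ^ 2 = gy := mul_inv_eq_one.1 rel_list.2.1
  show gx ^ 2 * gy = gy * gx ^ 2
  calc gx ^ 2 * gy = gx ^ 2 * gy * (gx ^ 2 * gx ^ 2) := by rw [cen_sq h4, mul_one]
    _ = gy * gx ^ 2 := by rw [← mul_assoc, h]

omit h4 in
theorem cen_x : Commute cen gx := (Commute.refl gx).pow_left 2

theorem cen_z : Commute cen gz := by
  show cen * gz = gz * cen
  have h : gz * cen * gz = cen := by
    calc gz * cen * gz = gz * gx * gz * (gz * gx * gz) := by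
          rw [show gz * gx * gz * (gz * gx * gz) = gz * gx * (gz * gz) * gx * gz by group, z_sq]
          simp only [cen, pow_two, mul_one, mul_assoc]
      _ = cen⁻¹ := by rw [z_conj_x, ← mul_inv_rev, ← pow_two]
      _ = cen := cen_inv h4
  calc cen * gz = gz * cen * gz * gz := by rw [h]
    _ = gz * cen := by rw [mul_assoc _ gz, z_sq, mul_one]

omit h4 in
theorem cen_t : cen⁻¹ * gt * cen = (gt)⁻¹ := by
  calc cen⁻¹ * gt * cen = (gx)⁻¹ * ((gx)⁻¹ * gt * gx) * gx := by
        simp only [cen, pow_two, mul_inv_rev, mul_assoc]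
    _ = (gx)⁻¹ * (gt ^ 2)⁻¹ * gx := by rw [t_conj_x]
    _ = (((gx)⁻¹ * gt * gx) ^ 2)⁻¹ := by simp only [pow_two]; group
    _ = (((gt ^ 2)⁻¹) ^ 2)⁻¹ := by rw [t_conj_x]
    _ = gt ^ 4 := by group
    _ = (gt)⁻¹ := eq_inv_of_mul_eq_one_left (by rw [← t_pow_five]; group)

/-- Images of the generators. -/
abbrev img : Cfsg.Spor.HN.Gen → Cfsg.Spor.HN
  | .x => gx
  | .y => gy
  | .z => gz * cen
  | .t => gt ^ 3

theorem img_rels : ∀ r ∈ rels, FreeGroup.lift img r = 1 := by
  intro r hr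
  obtain ⟨r1, r2, r3, r4, r5, r6, r7, r8, r9, r10, r11, r12, r13, r14⟩ := rel_list
  rcases hr with hr | hr
  · obtain ⟨a, ha, -⟩ := hr
    simp [Cfsg.Spor.coxNodes, Cfsg.Spor.HN.edges] at ha
  have cx : Commute cen gx := cen_x
  have cy := cen_y h4
  have cz := cen_z h4
  simp only [Cfsg.Spor.HN.extra, Set.mem_setOf_eq, List.mem_cons, List.not_mem_nil, or_false] at hr
  rcases hr with rfl | rfl | rfl | rfl | rfl | rfl | rfl | rfl | rfl | rfl | rfl | rfl | rfl | rfl <;>
    simp only [Cfsg.Spor.HN.x, Cfsg.Spor.HN.y, Cfsg.Spor.HN.z, Cfsg.Spor.HN.t, map_mul, map_inv, map_pow,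
      FreeGroup.lift_apply_of, img]
  · exact r1
  · exact r2
  · exact r3
  · exact r4
  · exact r5
  · exact r6
  · rw [cz.symm.mul_pow, r7, pow_two, cen_sq h4, one_mul]
  · rw [show gz * cen * gx = gz * gx * cen by rw [mul_assoc, cx.eq, ← mul_assoc],
      (cz.mul_right cx).symm.mul_pow, r8, pow_two, cen_sq h4, one_mul]
  · have cW : Commute cen (gy * gx * gy * gx * gy ^ 2 * gx * (gy)⁻¹) :=
      (((((cy.mul_right cx).mul_right cy).mul_right cx).mul_right (cy.pow_right 2)).mul_right cx).mul_right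
        cy.inv_right
    have e : ∀ W : Cfsg.Spor.HN, Commute cen W →
        (gz * cen)⁻¹ * W⁻¹ * (gz * cen) * W = (gz)⁻¹ * W⁻¹ * gz * W := fun W hW => by
      calc (gz * cen)⁻¹ * W⁻¹ * (gz * cen) * W
          = cen⁻¹ * ((gz)⁻¹ * W⁻¹ * gz) * (cen * W) := by group
        _ = cen⁻¹ * ((gz)⁻¹ * W⁻¹ * gz) * (W * cen) := by rw [hW.eq]
        _ = cen⁻¹ * ((gz)⁻¹ * W⁻¹ * gz * W * cen) := by simp only [mul_assoc]
        _ = _ := by
          rw [← (((cz.inv_right.mul_right hW.inv_right).mul_right cz).mul_right hW).eq, inv_mul_cancel_left]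
    rw [e _ cW]
    exact r9
  · have cV : Commute cen (gy ^ 3 * gx * gy * gx * gy) :=
      ((((cy.pow_right 3).mul_right cx).mul_right cy).mul_right cx).mul_right cy
    have e : ∀ V : Cfsg.Spor.HN, Commute cen V →
        gz * cen * (V⁻¹ * (gz * cen) * V * gx) ^ 3 = gz * (V⁻¹ * gz * V * gx) ^ 3 := fun V hV => by
      have hk : Commute cen (V⁻¹ * gz * V * gx) := ((hV.inv_right.mul_right cz).mul_right hV).mul_right cx
      have e1 : V⁻¹ * (gz * cen) * V * gx = V⁻¹ * gz * V * gx * cen := by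
        calc V⁻¹ * (gz * cen) * V * gx = V⁻¹ * gz * (cen * (V * gx)) := by simp only [mul_assoc]
          _ = V⁻¹ * gz * ((V * gx) * cen) := by rw [(hV.mul_right cx).eq]
          _ = _ := by simp only [mul_assoc]
      rw [e1, hk.symm.mul_pow, pow_succ cen 2, pow_two cen, cen_sq h4, one_mul, ← mul_assoc,
        mul_assoc gz cen, (hk.pow_right 3).eq, ← mul_assoc, mul_assoc _ cen cen, cen_sq h4, mul_one]
    rw [e _ cV]
    exact r10
  · rw [← pow_mul, mul_comm, pow_mul, r11, one_pow]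
  · have h := conj_pow (i := 3) (a := (gx)⁻¹) (b := gt)
    rw [inv_inv] at h
    rw [← h, t_conj_x, inv_pow, ← pow_mul, ← pow_mul, inv_mul_cancel]
  · rw [show (gt ^ 3)⁻¹ * (gy)⁻¹ * gt ^ 3 * gy = (gt ^ 3)⁻¹ * (gy)⁻¹ * (gt ^ 3 * gy) by group,
      (t_comm_y.pow_left 3).eq]
    group
  · have e : gz * cen * gt ^ 3 = (gx)⁻¹ * (gz * gt) * gx := by
      calc gz * cen * gt ^ 3 = gz * cen * (gt ^ 2)⁻¹ := by
            rw [eq_inv_of_mul_eq_one_left (show gt ^ 3 * gt ^ 2 = 1 by rw [← pow_add]; exact r11)]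
        _ = (gx)⁻¹ * gz * gx * ((gx)⁻¹ * gt * gx) := by
            rw [t_conj_x, ← z_conj_x]
            simp only [cen, pow_two, mul_assoc]
            rw [← mul_assoc gz gz, z_sq, one_mul]
        _ = _ := by group
    have h := conj_pow (i := 3) (a := (gx)⁻¹) (b := gz * gt)
    rw [inv_inv] at h
    rw [e, h, r14]
    group

/-- The endomorphism. -/
def endo : Cfsg.Spor.HN →* Cfsg.Spor.HN := PresentedGroup.toGroup (img_rels h4)

theorem endo_gen (i : Cfsg.Spor.HN.Gen) : endo h4 (gen i) = img i := PresentedGroup.toGroup.of _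

theorem endo_cen : endo h4 cen = cen := by rw [map_pow, endo_gen]

theorem endo_endo (g : Cfsg.Spor.HN) : endo h4 (endo h4 g) = cen * g * cen⁻¹ := by
  have : (endo h4).comp (endo h4) = (MulAut.conj cen).toMonoidHom := by
    refine PresentedGroup.ext fun i => ?_
    show endo h4 (endo h4 (gen i)) = cen * gen i * cen⁻¹
    rw [endo_gen]
    cases i <;> simp only [img, map_mul, map_pow, endo_gen]
    · rw [cen_x.eq, mul_inv_cancel_right]
    · rw [(cen_y h4).eq, mul_inv_cancel_right]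
    · show gz * cen * cen = cen * gz * cen⁻¹
      rw [(cen_z h4).eq, mul_inv_cancel_right, mul_assoc, cen_sq h4, mul_one]
    · have e9 : (gt ^ 3) ^ 3 = (gt)⁻¹ :=
        eq_inv_of_mul_eq_one_left (by rw [← pow_mul, ← pow_succ, show 3 * 3 + 1 = 5 * 2 from rfl, pow_mul,
          t_pow_five, one_pow])
      rw [e9, ← cen_t, cen_inv h4]
  exact DFunLike.congr_fun this g

theorem endo_bijective : Function.Bijective (endo h4) := by
  refine ⟨fun a b h => ?_, fun b => ⟨endo h4 (cen⁻¹ * b * cen), ?_⟩⟩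
  · have := congrArg (endo h4) h
    rw [endo_endo, endo_endo] at this
    exact mul_left_cancel (mul_right_cancel this)
  · rw [endo_endo]; group

/-- The automorphism. -/
noncomputable def outer : MulAut Cfsg.Spor.HN := MulEquiv.ofBijective (endo h4) (endo_bijective h4)

theorem outer_apply (g : Cfsg.Spor.HN) : outer h4 g = endo h4 g := rfl

end Cfsg.Agent.HNOut
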