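import Cfsg.Agent.HNOut.Bound
import Mathlib.GroupTheory.Sylow

/-!
The outer automorphism group of the presented Harada–Norton group has order two, granted four facts about the
subgroup `⟨x, y, z⟩`: it is the centraliser of `x ^ 2`; `x ^ 2` is the only involution commuting with some element of
order eleven; the elements of order five centralising `y` and its conjugate by `x` on which `x` acts as it does on
`t` are powers of `t`; and only the powers of `x ^ 2` in it centralise `x` and `y`.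
-/

set_option autoImplicit false
set_option linter.constructorNameAsVariable false

namespace Cfsg.Agent.HNOut

open Subgroup HNMult
open scoped commutatorElement

local notation "gx" => gen Cfsg.Spor.HN.Gen.x
local notation "gy" => gen Cfsg.Spor.HN.Gen.y
local notation "gz" => gen Cfsg.Spor.HN.Gen.z
local notation "gt" => gen Cfsg.Spor.HN.Gen.t

/-- The facts used. -/
structure Facts : Prop where
  simple : Cfsg.IsHN Cfsg.Spor.HN
  cover : ∃ K : Subgroup sub3, K.Normal ∧ K.index = 2 ∧ Cfsg.IsNonsplitDoubleCover K ↥Cfsg.Spor.HS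
  cent : ∀ g, Commute g cen → g ∈ sub3
  eleven : ∃ v, orderOf v = 11 ∧ Commute v cen ∧ ∀ w, orderOf w = 2 → Commute w v → w = cen
  five : ∀ w, Commute w gy → Commute w ((gx)⁻¹ * gy * gx) → w ^ 5 = 1 → (gx)⁻¹ * w * gx = (w ^ 2)⁻¹ →
    w ∈ zpowers gt
  small : ∀ p ∈ sub3, Commute p gx → Commute p gy → p ∈ zpowers cen

variable (F : Facts)
include F

theorem cen_ne_one : cen ≠ (1 : Cfsg.Spor.HN) := by
  intro h
  obtain ⟨K, -, hK2, hKc⟩ := F.cover
  have htop : sub3 = ⊤ := eq_top_iff.2 fun g _ => F.cent g (by rw [h]; exact Commute.one_right g)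
  have h1 : Nat.card ↥K * 2 = Nat.card ↥(sub3 : Subgroup Cfsg.Spor.HN) := by
    rw [← hK2, Subgroup.card_mul_index]
  rw [card_cover hKc, Nat.card_congr (MulEquiv.subgroupCongr htop).toEquiv, Subgroup.card_top, F.simple.2] at h1
  norm_num at h1

theorem orderOf_cen : orderOf (cen : Cfsg.Spor.HN) = 2 :=
  orderOf_eq_prime (by rw [pow_two]; exact cen_sq (x_pow_four F.simple)) (cen_ne_one F)

/-- An automorphism may be composed with an inner one to fix `x ^ 2`. -/
theorem fix_cen (α : MulAut Cfsg.Spor.HN) : ∃ g, (MulAut.conj g * α : MulAut Cfsg.Spor.HN) cen = cen := by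
  have hfin : Finite Cfsg.Spor.HN := Nat.finite_of_card_ne_zero (by rw [F.simple.2]; norm_num)
  have := Fact.mk (show Nat.Prime 11 by norm_num)
  obtain ⟨v, hv, hvc, huniq⟩ := F.eleven
  have hsyl : ∀ w : Cfsg.Spor.HN, orderOf w = 11 →
      Nat.card ↥(zpowers w) = 11 ^ (Nat.card Cfsg.Spor.HN).factorization 11 := by
    intro w hw
    rw [Nat.card_zpowers, hw, F.simple.2, show (273030912000000 : ℕ) = 11 * 24820992000000 from rfl,
      Nat.factorization_mul (by norm_num) (by norm_num), Finsupp.add_apply,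
      Nat.Prime.factorization_self (by norm_num), Nat.factorization_eq_zero_of_not_dvd (by norm_num)]
    rfl
  let S : Sylow 11 Cfsg.Spor.HN := Sylow.ofCard (zpowers v) (hsyl v hv)
  let T : Sylow 11 Cfsg.Spor.HN :=
    Sylow.ofCard (zpowers (α v)) (hsyl _ (by rw [MulEquiv.orderOf_eq]; exact hv))
  obtain ⟨g, hg⟩ := MulAction.exists_smul_eq Cfsg.Spor.HN T S
  refine ⟨g, huniq _ (by rw [MulEquiv.orderOf_eq]; exact orderOf_cen F) ?_⟩
  have hmem : ∀ u ∈ zpowers (α v), g * u * g⁻¹ ∈ zpowers v := by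
    intro u hu
    have : MulAut.conj g • u ∈ ((g • T : Sylow 11 Cfsg.Spor.HN) : Subgroup Cfsg.Spor.HN) := by
      rw [Sylow.coe_subgroup_smul]
      exact Subgroup.smul_mem_pointwise_smul u (MulAut.conj g) _ hu
    rw [hg] at this
    exact this
  obtain ⟨k, hk⟩ := mem_zpowers_iff.1 (hmem _ (mem_zpowers _))
  have hcomm : Commute ((MulAut.conj g * α : MulAut Cfsg.Spor.HN) cen) ((MulAut.conj g * α : MulAut Cfsg.Spor.HN) v) :=
    (show Commute cen v from hvc.symm).map (MulAut.conj g * α : MulAut Cfsg.Spor.HN).toMonoidHom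
  have hv' : (MulAut.conj g * α : MulAut Cfsg.Spor.HN) v = v ^ k := hk.symm
  rw [hv'] at hcomm
  -- the image generates the same cyclic group
  have hord : orderOf (v ^ k) = 11 := by rw [← hv', MulEquiv.orderOf_eq]; exact hv
  have heq : zpowers (v ^ k) = zpowers v :=
    Subgroup.eq_of_le_of_card_ge (zpowers_le.2 (zpow_mem (mem_zpowers v) k))
      (by rw [Nat.card_zpowers, Nat.card_zpowers, hord, hv])
  obtain ⟨j, hj⟩ := mem_zpowers_iff.1 (heq ▸ mem_zpowers v : v ∈ zpowers (v ^ k))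
  rw [← hj]
  exact hcomm.zpow_right j

/-- An automorphism fixing `x ^ 2` agrees on `x` and `y` with an inner one by an element of `⟨x, y, z⟩`. -/
theorem fix_xy (β : MulAut Cfsg.Spor.HN) (hβ : β cen = cen) :
    ∃ p, (MulAut.conj p * β : MulAut Cfsg.Spor.HN) gx = gx ∧ (MulAut.conj p * β : MulAut Cfsg.Spor.HN) gy = gy ∧
      ∃ e ∈ zpowers cen, (MulAut.conj p * β : MulAut Cfsg.Spor.HN) gz = gz * e := by
  have hfin : Finite Cfsg.Spor.HN := Nat.finite_of_card_ne_zero (by rw [F.simple.2]; norm_num)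
  obtain ⟨K, hKn, hK2, hKc⟩ := F.cover
  obtain ⟨hxK, hyK⟩ := x_y_mem K hK2
  have hmap : (sub3 : Subgroup Cfsg.Spor.HN).map (β : Cfsg.Spor.HN →* Cfsg.Spor.HN) = sub3 := by
    have h : ∀ g, g ∈ sub3 → Commute g cen := by
      intro g hg
      have hle : sub3 ≤ centralizer ({cen} : Set Cfsg.Spor.HN) := by
        rw [map_le_iff_le_comap, closure_le]
        rintro _ (rfl | rfl | rfl) <;> rw [SetLike.mem_coe, mem_comap, mem_centralizer_singleton_iff]
        exacts [cen_x.eq.symm, (cen_y (x_pow_four F.simple)).eq.symm, (cen_z (x_pow_four F.simple)).eq.symm]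
      exact mem_centralizer_singleton_iff.1 (hle hg)
    ext g
    constructor
    · rintro ⟨a, ha, rfl⟩
      exact F.cent _ (by simpa [hβ] using (h a ha).map β.toMonoidHom)
    · intro hg
      refine ⟨β.symm g, F.cent _ ?_, β.apply_symm_apply g⟩
      have := (h g hg).map β.symm.toMonoidHom
      have hc : β.symm cen = cen := by rw [MulEquiv.symm_apply_eq, hβ]
      simpa [hc] using this
  let βP : MulAut sub3 := (β.subgroupMap sub3).trans (MulEquiv.subgroupCongr hmap)
  have hKcomm : K = commutator ↥(sub3 : Subgroup Cfsg.Spor.HN) := by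
    refine le_antisymm ?_ ?_
    · intro k hk
      have : (⟨k, hk⟩ : K) ∈ commutator ↥K := by rw [cover_perfect hKc]; trivial
      have h2 := mem_map_of_mem K.subtype this
      rw [map_subtype_commutator] at h2
      exact commutator_mono le_top le_top h2
    · rw [_root_.commutator_def, commutator_le]
      intro a _ b _
      simp only [commutatorElement_def, mul_mem_iff_of_index_two hK2, inv_mem_iff]
      tauto
  have hKmap : K.map (βP : ↥sub3 →* ↥sub3) = K := by
    rw [hKcomm, _root_.commutator_def, map_commutator, map_top_of_surjective _ βP.surjective]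
  let βK : MulAut K := (βP.subgroupMap K).trans (MulEquiv.subgroupCongr hKmap)
  have hker : Nat.card ↥(MulAut.conjNormal : ↥(sub3 : Subgroup Cfsg.Spor.HN) →* MulAut K).ker ≤ 2 := by
    rw [← orderOf_cen F, ← Nat.card_zpowers]
    refine Nat.card_le_card_of_injective (fun q => ⟨((q : sub3) : Cfsg.Spor.HN), ?_⟩) fun q r hqr => ?_
    · have hq : ∀ k : K, ((q : sub3) * k * (q : sub3)⁻¹ : sub3) = k := fun k => by
        rw [← MulAut.conjNormal_apply, MonoidHom.mem_ker.1 q.2]
        rfl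
      have hxq := congrArg Subtype.val (hq ⟨_, hxK⟩)
      have hyq := congrArg Subtype.val (hq ⟨_, hyK⟩)
      exact F.small _ (q : sub3).2 (mul_inv_eq_iff_eq_mul.1 hxq) (mul_inv_eq_iff_eq_mul.1 hyq)
    · exact Subtype.ext (Subtype.ext (congrArg (fun u : zpowers cen => (u : Cfsg.Spor.HN)) hqr))
  obtain ⟨p, hp⟩ := conjNormal_surjective K hK2 hKc hker βK
  set γ := MulAut.conj ((p : Cfsg.Spor.HN)⁻¹) * β with hγ
  have hfix : ∀ k : sub3, k ∈ K → γ k = k := by
    intro k hk
    have h : β k = p * k * (p : Cfsg.Spor.HN)⁻¹ := congrArg Subtype.val (hp ⟨k, hk⟩)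
    show (p : Cfsg.Spor.HN)⁻¹ * β k * (p : Cfsg.Spor.HN)⁻¹⁻¹ = k
    rw [h]
    group
  refine ⟨(p : Cfsg.Spor.HN)⁻¹, hfix _ hxK, hfix _ hyK, (gz)⁻¹ * γ gz, F.small _ ?_ ?_ ?_, (mul_inv_cancel_left _ _).symm⟩
  · refine mul_mem (inv_mem (gen_mem _ (by simp))) ?_
    show (p : Cfsg.Spor.HN)⁻¹ * β gz * (p : Cfsg.Spor.HN)⁻¹⁻¹ ∈ sub3
    refine mul_mem (mul_mem (inv_mem p.2) ?_) (inv_mem (inv_mem p.2))
    rw [← hmap]
    exact mem_map_of_mem _ (gen_mem _ (by simp))
  all_goals
    have key : ∀ k : sub3, k ∈ K → Commute ((gz)⁻¹ * γ gz) (k : Cfsg.Spor.HN) := by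
      intro k hk
      have hzk := hfix _ (hKn.conj_mem k hk ⟨gz, gen_mem _ (by simp)⟩)
      change γ (gz * k * (gz)⁻¹) = gz * k * (gz)⁻¹ at hzk
      rw [map_mul, map_mul, map_inv, hfix k hk] at hzk
      show (gz)⁻¹ * γ gz * k = k * ((gz)⁻¹ * γ gz)
      calc (gz)⁻¹ * γ gz * k = (gz)⁻¹ * (γ gz * k * (γ gz)⁻¹) * γ gz := by group
        _ = (gz)⁻¹ * (gz * k * (gz)⁻¹) * γ gz := by rw [hzk]
        _ = _ := by group
  exacts [key _ hxK, key _ hyK]

/-- An automorphism fixing `x`, `y` and `z` is conjugation by a power of `x ^ 2`. -/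
theorem inner_of_fix (δ : MulAut Cfsg.Spor.HN) (hx : δ gx = gx) (hy : δ gy = gy) (hz : δ gz = gz) :
    δ ∈ Cfsg.Inn Cfsg.Spor.HN := by
  set w := δ gt with hw
  have hwy : Commute w gy := by have := t_comm_y.map δ.toMonoidHom; simpa [hy] using this
  have hwx : (gx)⁻¹ * w * gx = (w ^ 2)⁻¹ := by
    have := congrArg δ t_conj_x
    simpa [map_mul, map_inv, map_pow, hx] using this
  have hw5 : w ^ 5 = 1 := by rw [hw, ← map_pow, t_pow_five, map_one]
  have hwyx : Commute w ((gx)⁻¹ * gy * gx) := by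
    have h1 : Commute ((gx)⁻¹ * w * gx) ((gx)⁻¹ * gy * gx) := by
      have := hwy.map (MulAut.conj (gx)⁻¹).toMonoidHom
      simpa using this
    rw [hwx] at h1
    have h2 : w = ((w ^ 2)⁻¹) ^ 2 := by
      rw [inv_pow, ← pow_mul]
      exact eq_inv_of_mul_eq_one_left (by rw [← pow_succ']; exact hw5)
    rw [h2]
    exact h1.pow_left 2
  obtain ⟨k, hk⟩ := mem_zpowers_iff.1 (F.five w hwy hwyx hw5 hwx)
  have hk' : w = gt ^ (k % 5).toNat := by
    rw [← hk, ← zpow_natCast (gt) (k % 5).toNat, Int.toNat_of_nonneg (Int.emod_nonneg _ (by norm_num))]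
    conv_lhs => rw [← Int.emod_add_mul_ediv k 5, zpow_add, zpow_mul]
    rw [show (gt : Cfsg.Spor.HN) ^ (5 : ℤ) = 1 from t_pow_five, one_zpow, mul_one]
  have hzt : ∀ u : Cfsg.Spor.HN, u ^ 5 = 1 → cen⁻¹ * u * cen = u⁻¹ →
      (gz * u) ^ 3 = 1 → (gz * cen * u) ^ 3 = 1 → u = 1 := by
    intro u h5 hcu h1 h2
    have hci : cen * u = u⁻¹ * cen := by
      calc cen * u = cen⁻¹ * u * (cen * cen) := by rw [cen_sq (x_pow_four F.simple), mul_one, cen_inv (x_pow_four F.simple)]
        _ = cen⁻¹ * u * cen * cen := by simp only [mul_assoc]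
        _ = u⁻¹ * cen := by rw [hcu]
    have hci' : cen * u⁻¹ = u * cen := by
      calc cen * u⁻¹ = cen * (u⁻¹ * cen) * cen := by
            simp only [mul_assoc]
            rw [cen_sq (x_pow_four F.simple), mul_one]
        _ = cen * cen * u * cen := by rw [← hci]; simp only [mul_assoc]
        _ = u * cen := by rw [cen_sq (x_pow_four F.simple), one_mul]
    have hcz := (cen_z (x_pow_four F.simple)).eq
    -- the braid relation
    have hb : gz * u * gz = u⁻¹ * gz * u⁻¹ := by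
      have : gz * u * gz * (u * gz * u) = 1 := by rw [← h1]; simp only [pow_succ, pow_zero, one_mul, mul_assoc]
      rw [mul_eq_one_iff_eq_inv.1 this, mul_inv_rev, mul_inv_rev, z_inv, ← mul_assoc]
    have hb' : gz * u⁻¹ * gz = u * gz * u := by
      have := congrArg (·⁻¹) hb
      simpa [mul_inv_rev, z_inv, mul_assoc] using this
    -- cen in terms of z and u
    have hc : cen = gz * u⁻¹ * gz * u * gz * u⁻¹ := by
      have e : (gz * cen * u) ^ 3 = gz * u⁻¹ * gz * u * gz * u⁻¹ * cen := by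
        calc (gz * cen * u) ^ 3 = gz * (cen * u) * (gz * (cen * u)) * (gz * (cen * u)) := by
              simp only [pow_succ, pow_zero, one_mul, mul_assoc]
          _ = gz * (u⁻¹ * cen) * (gz * (u⁻¹ * cen)) * (gz * (u⁻¹ * cen)) := by rw [hci]
          _ = gz * u⁻¹ * (cen * gz) * u⁻¹ * cen * gz * u⁻¹ * cen := by simp only [mul_assoc]
          _ = gz * u⁻¹ * gz * (cen * u⁻¹) * cen * gz * u⁻¹ * cen := by rw [hcz]; simp only [mul_assoc]
          _ = gz * u⁻¹ * gz * u * (cen * cen) * gz * u⁻¹ * cen := by rw [hci']; simp only [mul_assoc]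
          _ = _ := by rw [cen_sq (x_pow_four F.simple), mul_one]
      rw [e] at h2
      rw [eq_inv_of_mul_eq_one_left h2, cen_inv (x_pow_four F.simple)]
    rw [hb'] at hc
    have hz2 : gz * (u * u) * gz = u⁻¹ * cen * u := by
      rw [hc]; group
    have hz2' : gz * (u * u) * gz = cen * (u * u) := by rw [hz2, ← hci, mul_assoc]
    have h10 : (gz * (u * u) * gz) ^ 2 = 1 := by
      rw [hz2', pow_two]
      calc cen * (u * u) * (cen * (u * u)) = cen * u * (u * cen) * (u * u) := by simp only [mul_assoc]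
        _ = u⁻¹ * cen * (u * cen) * (u * u) := by rw [hci]
        _ = u⁻¹ * (cen * u) * cen * (u * u) := by simp only [mul_assoc]
        _ = u⁻¹ * u⁻¹ * (cen * cen) * (u * u) := by rw [hci]; simp only [mul_assoc]
        _ = 1 := by rw [cen_sq (x_pow_four F.simple)]; group
    have h4 : u ^ 4 = 1 := by
      have e : (gz * (u * u) * gz) ^ 2 = gz * u ^ 4 * gz := by
        rw [pow_two, show gz * (u * u) * gz * (gz * (u * u) * gz) = gz * (u * u) * (gz * gz) * (u * u) * gz by
          group, z_sq]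
        simp only [pow_succ, pow_zero, one_mul, mul_one, mul_assoc]
      rw [e] at h10
      calc u ^ 4 = gz * gz * u ^ 4 * (gz * gz) := by rw [z_sq, one_mul, mul_one]
        _ = gz * (gz * u ^ 4 * gz) * gz := by group
        _ = 1 := by rw [h10, mul_one, z_sq]
    calc u = u ^ 5 * (u ^ 4)⁻¹ := by group
      _ = 1 := by rw [h5, h4, inv_one, mul_one]
  have hcen_pow : ∀ j : ℕ, cen⁻¹ * gt ^ j * cen = (gt ^ j)⁻¹ := fun j => by
    have := conj_pow (i := j) (a := (cen : Cfsg.Spor.HN)⁻¹) (b := gt)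
    rw [inv_inv] at this
    rw [← this, cen_t, inv_pow]
  have ht1 : (gt : Cfsg.Spor.HN) ≠ 1 := by
    intro h
    obtain ⟨v, hv, -⟩ := F.eleven
    have htop : sub3 = ⊤ := by
      refine eq_top_iff.2 ?_
      rw [← PresentedGroup.closure_range_of rels, closure_le]
      rintro _ ⟨i, rfl⟩
      cases i
      exacts [gen_mem _ (by simp), gen_mem _ (by simp), gen_mem _ (by simp),
        (show gen Cfsg.Spor.HN.Gen.t ∈ sub3 by rw [h]; exact one_mem _)]
    obtain ⟨K, -, hK2, hKc⟩ := F.cover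
    have h1 : Nat.card ↥K * 2 = Nat.card ↥(sub3 : Subgroup Cfsg.Spor.HN) := by
      rw [← hK2, Subgroup.card_mul_index]
    rw [card_cover hKc, Nat.card_congr (MulEquiv.subgroupCongr htop).toEquiv, Subgroup.card_top, F.simple.2] at h1
    norm_num at h1
  have hzw : (gz * w) ^ 3 = 1 := by
    rw [hw, ← hz, ← map_mul, ← map_pow, rel_list.2.2.2.2.2.2.2.2.2.2.2.2.2, map_one]
  have hzc3 : (gz * cen * gt ^ 3) ^ 3 = 1 := by
    have := congrArg (endo (x_pow_four F.simple)) rel_list.2.2.2.2.2.2.2.2.2.2.2.2.2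
    rwa [map_pow, map_mul, endo_gen, endo_gen, map_one] at this
  have hj : (k % 5).toNat < 5 := by
    have := Int.emod_lt_of_pos k (show (0 : ℤ) < 5 by norm_num)
    omega
  have hext : ∀ ψ : MulAut Cfsg.Spor.HN, ψ gx = gx → ψ gy = gy → ψ gz = gz → ψ gt = w →
      δ = ψ := by
    intro ψ h1 h2 h3 h4
    have : δ.toMonoidHom = ψ.toMonoidHom := by
      refine PresentedGroup.ext fun i => ?_
      show δ (gen i) = ψ (gen i)
      cases i <;> simp only [hx, hy, hz, h1, h2, h3, h4]
      rfl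
    exact MulEquiv.ext fun g => DFunLike.congr_fun this g
  generalize hjj : (k % 5).toNat = j at hk' hj
  interval_cases j
  · exact absurd (δ.injective (show δ gt = δ 1 by rw [map_one, ← hw, hk', pow_zero])) ht1
  · rw [hext 1 rfl rfl rfl (by rw [hk', pow_one]; rfl)]
    exact one_mem _
  · exfalso
    -- conjugating by `x ^ 2` turns the relation into the one for the cube
    have h := conj_pow (i := 3) (a := (cen : Cfsg.Spor.HN)⁻¹) (b := gz * gt ^ 2)
    rw [inv_inv] at h
    have e : cen⁻¹ * (gz * gt ^ 2) * cen = gz * gt ^ 3 := by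
      calc cen⁻¹ * (gz * gt ^ 2) * cen = cen⁻¹ * gz * cen * (cen⁻¹ * gt ^ 2 * cen) := by group
        _ = gz * (gt ^ 2)⁻¹ := by
          rw [hcen_pow, mul_assoc _ gz, ← (cen_z (x_pow_four F.simple)).eq, inv_mul_cancel_left]
        _ = gz * gt ^ 3 := by
          rw [inv_eq_of_mul_eq_one_right (show gt ^ 2 * gt ^ 3 = 1 by rw [← pow_add]; exact t_pow_five)]
    rw [e, ← hk', hzw] at h
    have := hzt (gt ^ 3) (by rw [← pow_mul, mul_comm, pow_mul, t_pow_five, one_pow]) (hcen_pow 3)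
      (by rw [h]; group) hzc3
    exact ht1 (by
      calc (gt : Cfsg.Spor.HN) = (gt ^ 3) ^ 2 * (gt ^ 5)⁻¹ := by group
        _ = 1 := by rw [this, t_pow_five]; group)
  · exfalso
    have := hzt (gt ^ 3) (by rw [← pow_mul, mul_comm, pow_mul, t_pow_five, one_pow]) (hcen_pow 3)
      (hk' ▸ hzw) hzc3
    exact ht1 (by
      calc (gt : Cfsg.Spor.HN) = (gt ^ 3) ^ 2 * (gt ^ 5)⁻¹ := by group
        _ = 1 := by rw [this, t_pow_five]; group)
  · refine ⟨cen, ?_⟩
    refine (hext (MulAut.conj cen) ?_ ?_ ?_ ?_).symm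
    · rw [MulAut.conj_apply, cen_x.eq, mul_inv_cancel_right]
    · rw [MulAut.conj_apply, (cen_y (x_pow_four F.simple)).eq, mul_inv_cancel_right]
    · rw [MulAut.conj_apply, (cen_z (x_pow_four F.simple)).eq, mul_inv_cancel_right]
    · rw [MulAut.conj_apply, hk']
      have h := cen_t
      rw [cen_inv (x_pow_four F.simple)] at h ⊢
      rw [h]
      exact (eq_inv_of_mul_eq_one_left (by rw [← pow_succ]; exact t_pow_five)).symm

theorem outer_not_inner : outer (x_pow_four F.simple) ∉ Cfsg.Inn Cfsg.Spor.HN := by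
  rintro ⟨g, hg⟩
  have h : ∀ u, g * u * g⁻¹ = endo (x_pow_four F.simple) u := fun u => DFunLike.congr_fun hg u
  have hc : Commute g cen := mul_inv_eq_iff_eq_mul.1 (by rw [h, endo_cen])
  have hx : Commute g gx := mul_inv_eq_iff_eq_mul.1 (by rw [h, endo_gen])
  have hy : Commute g gy := mul_inv_eq_iff_eq_mul.1 (by rw [h, endo_gen])
  obtain ⟨j, rfl⟩ := mem_zpowers_iff.1 (F.small g (F.cent g hc) hx hy)
  have h2 := h gz
  rw [endo_gen, ((cen_z (x_pow_four F.simple)).zpow_left j).eq, mul_inv_cancel_right] at h2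
  exact cen_ne_one F (left_eq_mul.1 h2)

/-- The outer automorphism group has order two. -/
theorem card_out : Nat.card (Cfsg.Out Cfsg.Spor.HN) = 2 := by
  set τ := outer (x_pow_four F.simple) with hτ
  rw [show Cfsg.Out Cfsg.Spor.HN = (MulAut Cfsg.Spor.HN ⧸ Cfsg.Inn Cfsg.Spor.HN) from rfl, Nat.card_eq_two_iff]
  refine ⟨((1 : MulAut Cfsg.Spor.HN) : _ ⧸ Cfsg.Inn Cfsg.Spor.HN), (τ : _ ⧸ Cfsg.Inn Cfsg.Spor.HN), ?_, ?_⟩
  · intro h
    have := QuotientGroup.eq.1 h
    rw [inv_one, one_mul] at this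
    exact outer_not_inner F this
  refine Set.eq_univ_of_forall fun q => ?_
  obtain ⟨α, rfl⟩ := QuotientGroup.mk_surjective q
  obtain ⟨g, hg⟩ := fix_cen F α
  obtain ⟨p, hx, hy, e, he, hz⟩ := fix_xy F _ hg
  set γ := MulAut.conj p * (MulAut.conj g * α) with hγ
  have key : (γ : _ ⧸ Cfsg.Inn Cfsg.Spor.HN) = (α : _ ⧸ Cfsg.Inn Cfsg.Spor.HN) := by
    have h1 : ∀ r, ((MulAut.conj r : MulAut Cfsg.Spor.HN) : _ ⧸ Cfsg.Inn Cfsg.Spor.HN) = 1 := fun r =>
      (QuotientGroup.eq_one_iff _).2 ⟨r, rfl⟩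
    rw [hγ, QuotientGroup.mk_mul, QuotientGroup.mk_mul, h1, h1, one_mul, one_mul]
  rw [← key]
  obtain ⟨j, rfl⟩ := mem_zpowers_iff.1 he
  rcases Int.emod_two_eq j with h | h
  · left
    refine QuotientGroup.eq.2 ?_
    rw [mul_one]
    refine inv_mem (inner_of_fix F γ hx hy ?_)
    rw [hz, ← Int.emod_add_mul_ediv j 2, h, zero_add, zpow_mul, zpow_two, cen_sq (x_pow_four F.simple), one_zpow, mul_one]
  · right
    refine Set.mem_singleton_iff.2 (QuotientGroup.eq.2 ?_).symm
    have hcj : cen ^ j = (cen : Cfsg.Spor.HN) := by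
      rw [← Int.emod_add_mul_ediv j 2, h, zpow_add, zpow_mul, zpow_two, cen_sq (x_pow_four F.simple), one_zpow, mul_one,
        zpow_one]
    rw [hcj] at hz
    refine inner_of_fix F (τ⁻¹ * γ) ?_ ?_ ?_
    · rw [MulAut.mul_apply, hx, MulAut.inv_def, MulEquiv.symm_apply_eq, hτ, outer_apply, endo_gen]
    · rw [MulAut.mul_apply, hy, MulAut.inv_def, MulEquiv.symm_apply_eq, hτ, outer_apply, endo_gen]
    · rw [MulAut.mul_apply, hz, MulAut.inv_def, MulEquiv.symm_apply_eq, hτ, outer_apply, endo_gen]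

end Cfsg.Agent.HNOut
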