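import Cfsg.Agent.HNOut.Checks

/-! Generated data: the normal closure of the element of order eleven contains `x` and `y`. -/

set_option Elab.async false
set_option maxRecDepth 100000

namespace Cfsg.Agent.HNOut

open Cfsg.Agent.DCoset Cfsg.Agent.CosetCert

/-- The six conjugates. -/
def blocks : List Nat := [0x20004030402020007, 0x30305020501030007, 0x202000403040202030009, 0x203030502050103030009, 0x2000403040202010009, 0x3030502050103010009]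

/-- `x` as a product of conjugates of the element of order eleven and their inverses. -/
def witX : List Nat := [5, 1, 4, 3, 3, 5, 1, 4, 3, 3, 0, 5, 2, 1, 0, 5, 2, 1, 0, 5, 2, 1, 2, 2, 5, 0, 4, 2, 2, 5, 0, 4, 3, 0, 5, 2, 0, 3, 4, 1, 3, 0, 5, 2, 5, 1, 4, 3, 3, 0, 5, 2, 1, 0, 5, 2, 1, 0, 5, 2, 1, 2, 2, 5, 0, 4, 3, 4, 1, 2, 0, 5, 2, 1, 3, 4, 1, 2, 3, 0, 5, 2, 0, 3, 4, 1, 3, 0, 5, 2, 5, 1, 4, 3, 3, 5, 1, 4, 3, 3, 5, 1, 4, 3, 3, 0, 5, 2, 1, 0, 5, 2, 1, 0, 5, 2, 1, 0, 5, 2, 1, 2, 2, 5, 0, 4, 3, 0, 0, 3]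

/-- `y` as a product of conjugates of the element of order eleven and their inverses. -/
def witY : List Nat := [5, 1, 4, 3, 3, 5, 1, 4, 3, 3, 0, 5, 2, 1, 0, 5, 2, 1, 0, 5, 2, 1, 2, 2, 5, 0, 4, 2, 2, 5, 0, 4, 3, 0, 5, 2, 0, 3, 4, 1, 3, 0, 5, 2, 5, 1, 4, 3, 3, 0, 5, 2, 1, 0, 5, 2, 1, 0, 5, 2, 1, 2, 2, 5, 0, 4, 3, 4, 1, 2, 0, 5, 2, 1, 3, 4, 1, 2, 5, 1, 4, 3, 3, 5, 1, 4, 3, 3, 0, 5, 2, 1, 0, 5, 2, 1, 0, 5, 2, 1, 2, 2, 5, 0, 4, 2, 2, 5, 0, 4, 5, 1, 4, 3, 3, 5, 1, 4, 3, 3, 2, 2, 5, 0, 4, 3, 4, 1, 2, 0, 5, 2, 1, 3, 4, 1, 2, 2, 2, 5, 0, 4, 2, 2, 5, 0, 4, 2, 2, 5, 0, 4, 2, 2, 5, 0, 4, 5, 1, 4, 3, 3, 5, 1, 4, 3, 3, 0, 5, 2, 1, 0, 5, 2, 1, 0, 5, 2, 1, 2, 2, 5, 0, 4, 2, 2, 5, 0, 4, 3, 4, 1, 2]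

theorem blocks_check : (∀ b ∈ blocks, HN.tab.okWord b = true) ∧
    HN.tab.app HN.tab.base (blocks.getD 0 0) = powV 1 ∧ HN.tab.app HN.tab.base (blocks.getD 1 0) = powV 10 ∧
    HN.tab.app HN.tab.base (blocks.getD 2 0) =
      HN.tab.app (HN.tab.app (HN.tab.app HN.tab.base 0x30001) wV) 0x20001 ∧
    HN.tab.app HN.tab.base (blocks.getD 3 0) =
      HN.tab.app (List.rec (HN.tab.app HN.tab.base 0x30001) (fun _ _ t => HN.tab.app t wV) (List.range 10)) 0x20001 ∧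
    HN.tab.app HN.tab.base (blocks.getD 4 0) =
      HN.tab.app (HN.tab.app (HN.tab.app HN.tab.base 0x10001) wV) 0x1 ∧
    HN.tab.app HN.tab.base (blocks.getD 5 0) =
      HN.tab.app (List.rec (HN.tab.app HN.tab.base 0x10001) (fun _ _ t => HN.tab.app t wV) (List.range 10)) 0x1 := by
  decide +kernel

theorem wit_check : (∀ j ∈ witX ++ witY, j < 6) ∧
    tupL HN.tab (witX.map fun j => blocks.getD j 0) = HN.tab.app HN.tab.base 0x1 ∧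
    tupL HN.tab (witY.map fun j => blocks.getD j 0) = HN.tab.app HN.tab.base 0x20001 := by
  decide +kernel

/-- The order of `x` in the model divides four. -/
theorem x_four : HN.tab.app HN.tab.base 0x4 = HN.tab.base := by decide +kernel

end Cfsg.Agent.HNOut
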