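import Cfsg.Agent.HNOut.Derive
import Cfsg.Agent.HNOut.Witness
import Cfsg.Agent.IndexSimple

/-!
The presented Harada–Norton group is simple, granted its order, that of `⟨x, y, z⟩` and a model of
that group: a normal subgroup meeting `⟨x, y, z⟩` contains `x ^ 2`, hence every generator.
-/

set_option autoImplicit false
set_option linter.constructorNameAsVariable false

namespace Cfsg.Agent.HNOut

open Subgroup HNMult Cfsg.Agent.DCoset Cfsg.Agent.CosetCert

local notation "gx" => gen Cfsg.Spor.HN.Gen.x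
local notation "gy" => gen Cfsg.Spor.HN.Gen.y
local notation "gz" => gen Cfsg.Spor.HN.Gen.z
local notation "gt" => gen Cfsg.Spor.HN.Gen.t

/-- The prime powers dividing the index are not congruent to one modulo eleven. -/
theorem pow_check : ∀ d ∈ [2, 4, 8, 3, 9, 27, 81, 5, 25, 125, 19], ¬ 11 ∣ d - 1 := by decide

theorem pow_cases {r k : ℕ} (hr : r.Prime) (hk : 0 < k) (h : r ^ k ∣ 1539000) : ¬ 11 ∣ r ^ k - 1 := by
  refine pow_check _ ?_
  have hr' : r ∣ 1539000 := (dvd_pow_self r hk.ne').trans h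
  rw [show (1539000 : ℕ) = 2 ^ 3 * (3 ^ 4 * (5 ^ 3 * 19)) by norm_num] at hr'
  have hbound : ∀ (b : ℕ), ¬ r ^ (b + 1) ∣ 1539000 → k ≤ b := fun b hb => by
    by_contra hlt
    exact hb ((pow_dvd_pow r (by omega)).trans h)
  rcases hr.dvd_mul.1 hr' with h1 | h1
  · obtain rfl := (Nat.prime_dvd_prime_iff_eq hr Nat.prime_two).1 (hr.dvd_of_dvd_pow h1)
    have := hbound 3 (by norm_num)
    interval_cases k <;> simp
  rcases hr.dvd_mul.1 h1 with h1 | h1
  · obtain rfl := (Nat.prime_dvd_prime_iff_eq hr Nat.prime_three).1 (hr.dvd_of_dvd_pow h1)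
    have := hbound 4 (by norm_num)
    interval_cases k <;> simp
  rcases hr.dvd_mul.1 h1 with h1 | h1
  · obtain rfl := (Nat.prime_dvd_prime_iff_eq hr (by norm_num : Nat.Prime 5)).1 (hr.dvd_of_dvd_pow h1)
    have := hbound 3 (by norm_num)
    interval_cases k <;> simp
  · obtain rfl := (Nat.prime_dvd_prime_iff_eq hr (by norm_num : Nat.Prime 19)).1 h1
    have := hbound 1 (by norm_num)
    interval_cases k
    simp

variable (S : Setup) (hx4 : gx ^ 4 = (1 : Cfsg.Spor.HN)) (hC : Nat.card Cfsg.Spor.HN = 273030912000000)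
  (hP : Nat.card ↥(sub3 : Subgroup Cfsg.Spor.HN) = 177408000)
include S hx4 hC hP

theorem cen_ne : (cen : Cfsg.Spor.HN) ≠ 1 := by
  intro h
  have hne := wC_ne
  rw [app_el S (okWord_el S _ (by decide +kernel)), ← S.tab_eq, ← S.M.one] at hne
  exact hne (congrArg S.M.tup (Subtype.ext ((coe_cQ S).trans h) : cQ S = 1))

/-- A subgroup containing the six conjugates of the element of order eleven contains `x` and `y`. -/
theorem closure_witness (M : Subgroup ↥(sub3 : Subgroup Cfsg.Spor.HN))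
    (hv : S.M.el wV ∈ M) (hy : (S.M.q 2)⁻¹ * S.M.el wV * S.M.q 2 ∈ M)
    (hx : (S.M.q 0)⁻¹ * S.M.el wV * S.M.q 0 ∈ M) : S.M.q 0 ∈ M ∧ S.M.q 2 ∈ M := by
  obtain ⟨hok, e0, e1, e2, e3, e4, e5⟩ := blocks_check
  obtain ⟨hlt, hwx, hwy⟩ := wit_check
  have hokV : S.M.toTab.okWord wV = true := okWord_el S _ (by decide +kernel)
  have happ : ∀ (a : ↥(sub3 : Subgroup Cfsg.Spor.HN)) w, DCoset.HN.tab.okWord w = true →
      DCoset.HN.tab.app (S.M.tup a) w = S.M.tup (a * S.M.el w) := fun a w hw => by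
    rw [← S.tab_eq]; exact Sift.app_tup (okWord_el S _ hw) a
  have hone : DCoset.HN.tab.base = S.M.tup 1 := by rw [S.M.one, S.tab_eq]
  have hpow : ∀ n, powV n = S.M.tup (S.M.el wV ^ n) := by
    intro n
    induction n with
    | zero => rw [pow_zero, ← hone]; rfl
    | succ n ih =>
      show DCoset.HN.tab.app (powV n) wV = _
      rw [ih, happ _ _ (by decide +kernel), ← pow_succ]
  have hq : ∀ g, g < 6 → S.M.el (g * 65536 + 1) = S.M.q g := fun g hg => el_one_letter S g (by omega)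
  have hlet : ∀ g, g < 6 → DCoset.HN.tab.okWord (g * 65536 + 1) = true := by decide +kernel
  have hrec : ∀ (a : ↥(sub3 : Subgroup Cfsg.Spor.HN)) n,
      List.rec (motive := fun _ => Nat) (S.M.tup a) (fun _ _ t => DCoset.HN.tab.app t wV) (List.range n) =
        S.M.tup (a * S.M.el wV ^ n) := by
    intro a n
    have : ∀ l : List Nat, List.rec (motive := fun _ => Nat) (S.M.tup a) (fun _ _ t => DCoset.HN.tab.app t wV) l =
        S.M.tup (a * S.M.el wV ^ l.length) := by
      intro l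
      induction l with
      | nil => simp
      | cons b l ih =>
        show DCoset.HN.tab.app (List.rec _ _ l) wV = _
        rw [ih, happ _ _ (by decide +kernel), mul_assoc, ← pow_succ, List.length_cons]
    rw [this, List.length_range]
  have hb : ∀ j, j < 6 → S.M.el (blocks.getD j 0) ∈ M := by
    have key : ∀ j, j < 6 → DCoset.HN.tab.okWord (blocks.getD j 0) = true := by decide +kernel
    have val : ∀ j, j < 6 → ∀ g, DCoset.HN.tab.app DCoset.HN.tab.base (blocks.getD j 0) = S.M.tup g →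
        g ∈ M → S.M.el (blocks.getD j 0) ∈ M := by
      intro j hj g h hg
      rw [hone, happ _ _ (key j hj), one_mul] at h
      rwa [S.M.inj h]
    have hc : ∀ n, ∀ g ∈ ([0, 2] : List Nat),
        (S.M.q g)⁻¹ * S.M.el wV * S.M.q g ∈ M → (S.M.q g)⁻¹ * S.M.el wV ^ n * S.M.q g ∈ M := by
      intro n g _ hg
      have := conj_pow (i := n) (a := (S.M.q g)⁻¹) (b := S.M.el wV)
      rw [inv_inv] at this
      rw [← this]
      exact pow_mem hg n
    have h1 : S.M.el 0x10001 = (S.M.q 0)⁻¹ := by rw [← (q_inv S).1]; exact hq 1 (by norm_num)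
    have h3 : S.M.el 0x30001 = (S.M.q 2)⁻¹ := by rw [← (q_inv S).2]; exact hq 3 (by norm_num)
    have h0 : S.M.el 0x1 = S.M.q 0 := hq 0 (by norm_num)
    have h2 : S.M.el 0x20001 = S.M.q 2 := hq 2 (by norm_num)
    intro j hj
    interval_cases j
    · exact val 0 hj _ (e0.trans (hpow 1)) (by rw [pow_one]; exact hv)
    · exact val 1 hj _ (e1.trans (hpow 10)) (pow_mem hv 10)
    · refine val 2 hj _ (e2.trans ?_) (hc 1 2 (by simp) hy)
      rw [hone, happ _ _ (hlet 3 (by norm_num)), happ _ _ (by decide +kernel), happ _ _ (hlet 2 (by norm_num)),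
        one_mul, h3, h2, pow_one]
    · refine val 3 hj _ (e3.trans ?_) (hc 10 2 (by simp) hy)
      rw [hone, happ _ _ (hlet 3 (by norm_num)), hrec, happ _ _ (hlet 2 (by norm_num)), one_mul, h3, h2]
    · refine val 4 hj _ (e4.trans ?_) (hc 1 0 (by simp) hx)
      rw [hone, happ _ _ (hlet 1 (by norm_num)), happ _ _ (by decide +kernel), happ _ _ (hlet 0 (by norm_num)),
        one_mul, h1, h0, pow_one]
    · refine val 5 hj _ (e5.trans ?_) (hc 10 0 (by simp) hx)
      rw [hone, happ _ _ (hlet 1 (by norm_num)), hrec, happ _ _ (hlet 0 (by norm_num)), one_mul, h1, h0]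
  have hword : ∀ L : List Nat, (∀ j ∈ L, j < 6) → ∀ g,
      tupL DCoset.HN.tab (L.map fun j => blocks.getD j 0) = S.M.tup g → g ∈ M := by
    intro L hL g h
    rw [← S.tab_eq, Sift.tupL_eq _ (fun w hw => by
      obtain ⟨j, hj, rfl⟩ := List.mem_map.1 hw
      refine okWord_el S _ (hok _ ?_)
      rw [List.getD_eq_getElem _ _ (show j < blocks.length from hL j hj)]
      exact List.getElem_mem _)] at h
    rw [← S.M.inj h]
    refine list_prod_mem fun b hb' => ?_
    obtain ⟨w, hw, rfl⟩ := List.mem_map.1 hb'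
    obtain ⟨j, hj, rfl⟩ := List.mem_map.1 hw
    exact hb j (hL j hj)
  refine ⟨hword witX (fun j hj => hlt j (by simp [hj])) _ ?_, hword witY (fun j hj => hlt j (by simp [hj])) _ ?_⟩
  · rw [hwx, hone, happ _ _ (hlet 0 (by norm_num)), one_mul]
    exact congrArg _ (hq 0 (by norm_num))
  · rw [hwy, hone, happ _ _ (hlet 2 (by norm_num)), one_mul]
    exact congrArg _ (hq 2 (by norm_num))

/-- Every nontrivial normal subgroup of `⟨x, y, z⟩` contains `x ^ 2`. -/
theorem cen_mem (M : Subgroup ↥(sub3 : Subgroup Cfsg.Spor.HN)) [hMn : M.Normal] (hM : M ≠ ⊥) :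
    cQ S ∈ M := by
  have := finite_sub3 hx4 hC hP
  have := Fact.mk (show Nat.Prime 11 by norm_num)
  have := Fact.mk (show Nat.Prime 2 by norm_num)
  have hcq : ∀ a : ↥(sub3 : Subgroup Cfsg.Spor.HN), Commute (cQ S) a := fun a => Subtype.ext (by
    have hle : sub3 ≤ centralizer ({cen} : Set Cfsg.Spor.HN) := by
      rw [map_le_iff_le_comap, closure_le]
      rintro _ (rfl | rfl | rfl) <;> rw [SetLike.mem_coe, mem_comap, mem_centralizer_singleton_iff]
      exacts [cen_x.eq.symm, (cen_y hx4).eq.symm, (cen_z hx4).eq.symm]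
    rw [Subgroup.coe_mul, Subgroup.coe_mul, coe_cQ]
    exact (mem_centralizer_singleton_iff.1 (hle a.2)).symm)
  have hv11 : orderOf (S.M.el wV) = 11 := by
    have hokV : S.M.toTab.okWord wV = true := okWord_el S _ (by decide +kernel)
    have hpow : ∀ n, powV n = S.M.tup (S.M.el wV ^ n) := by
      intro n
      induction n with
      | zero => rw [pow_zero, S.M.one, S.tab_eq]; rfl
      | succ n ih =>
        show DCoset.HN.tab.app (powV n) wV = _
        rw [ih, ← S.tab_eq, Sift.app_tup hokV, ← pow_succ]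
    refine orderOf_eq_prime (S.M.inj (by rw [← hpow, wV_order.1, S.M.one, S.tab_eq])) fun h => ?_
    exact wV_order.2 (by rw [hpow, h, one_pow, S.M.one, S.tab_eq])
  have hconj : ∀ u g, u ∈ M → g⁻¹ * u * g ∈ M := fun u g hu => by simpa using hMn.conj_mem u hu g⁻¹
  have hcard := Subgroup.card_subgroup_dvd_card M
  rw [card_sub3 hx4 hC hP] at hcard
  by_cases h11 : 11 ∣ Nat.card ↥M
  · obtain ⟨a, ha⟩ := exists_prime_orderOf_dvd_card' 11 h11
    have hsyl : ∀ w : ↥(sub3 : Subgroup Cfsg.Spor.HN), orderOf w = 11 →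
        Nat.card ↥(zpowers w) = 11 ^ (Nat.card ↥(sub3 : Subgroup Cfsg.Spor.HN)).factorization 11 := by
      intro w hw
      rw [Nat.card_zpowers, hw, card_sub3 hx4 hC hP, show (177408000 : ℕ) = 11 * 16128000 from rfl,
        Nat.factorization_mul (by norm_num) (by norm_num), Finsupp.add_apply,
        Nat.Prime.factorization_self (by norm_num), Nat.factorization_eq_zero_of_not_dvd (by norm_num)]
      rfl
    let T₁ : Sylow 11 ↥(sub3 : Subgroup Cfsg.Spor.HN) :=
      Sylow.ofCard (zpowers (a : ↥(sub3 : Subgroup Cfsg.Spor.HN))) (hsyl _ (by rw [Subgroup.orderOf_coe]; exact ha))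
    let T₂ : Sylow 11 ↥(sub3 : Subgroup Cfsg.Spor.HN) := Sylow.ofCard (zpowers (S.M.el wV)) (hsyl _ hv11)
    obtain ⟨g, hg⟩ := MulAction.exists_smul_eq ↥(sub3 : Subgroup Cfsg.Spor.HN) T₁ T₂
    have hle : (T₂ : Subgroup ↥(sub3 : Subgroup Cfsg.Spor.HN)) ≤ M := by
      rw [← hg, Sylow.coe_subgroup_smul]
      rintro _ ⟨u, hu, rfl⟩
      exact hMn.conj_mem u (zpowers_le.2 a.2 hu) g
    have hvM : S.M.el wV ∈ M := hle (mem_zpowers _)
    have hxM := (closure_witness S hx4 hC hP M hvM (hconj _ _ hvM) (hconj _ _ hvM)).1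
    have : cQ S = S.M.q 0 * S.M.q 0 :=
      Subtype.ext (by rw [coe_cQ, Subgroup.coe_mul, S.q_x, ← pow_two])
    rw [this]
    exact mul_mem hxM hxM
  by_cases h2 : 2 ^ 10 ∣ Nat.card ↥M
  · -- `M` contains a Sylow 2-subgroup, which contains the centre
    by_contra hc
    have hc2 : orderOf (cQ S) = 2 := orderOf_eq_prime (Subtype.ext (by
      rw [SubmonoidClass.coe_pow, coe_cQ, pow_two, cen_sq hx4]; rfl)) fun h =>
        cen_ne S hx4 hC hP ((coe_cQ S).symm.trans (congrArg Subtype.val h))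
    have hd : M ⊓ zpowers (cQ S) = ⊥ := by
      refine eq_bot_iff.2 fun u hu => ?_
      obtain ⟨hu1, hu2⟩ := hu
      obtain ⟨j, rfl⟩ := mem_zpowers_iff.1 hu2
      rw [← zpow_mod_orderOf, hc2, Nat.cast_ofNat] at hu1 ⊢
      rcases Int.emod_two_eq j with he | he <;> rw [he] at hu1 ⊢
      · simp
      · simp at hu1; exact absurd hu1 hc
    have hZn : (zpowers (cQ S)).Normal := ⟨fun u hu g => by
      obtain ⟨j, rfl⟩ := mem_zpowers_iff.1 hu
      rw [← ((hcq g).zpow_left j).eq, mul_inv_cancel_right]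
      exact zpow_mem (mem_zpowers _) j⟩
    set N := M ⊔ zpowers (cQ S) with hN
    have hcardN : Nat.card ↥N = Nat.card ↥M * 2 := by
      have h1 : M.relIndex N = Nat.card ↥(zpowers (cQ S)) := by
        rw [hN, sup_comm, relIndex_sup_right, ← inf_relIndex_right, hd, relIndex_bot_left]
      have h2' := relIndex_mul_relIndex (⊥ : Subgroup ↥(sub3 : Subgroup Cfsg.Spor.HN)) M N bot_le le_sup_left
      rw [relIndex_bot_left, relIndex_bot_left, h1, Nat.card_zpowers, hc2] at h2'
      exact h2'.symm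
    have hodd : ¬ 2 ∣ N.index := by
      intro hdv
      have e := Subgroup.card_mul_index N
      rw [card_sub3 hx4 hC hP, hcardN] at e
      have : 2 ^ 10 * 2 * 2 ∣ 177408000 := e ▸ Nat.mul_dvd_mul (Nat.mul_dvd_mul h2 dvd_rfl) hdv
      norm_num at this
    have hNn : N.Normal := Subgroup.sup_normal M (zpowers (cQ S))
    have hcx : cQ S = S.M.q 0 ^ 2 :=
      Subtype.ext (by rw [coe_cQ, SubmonoidClass.coe_pow, S.q_x])
    obtain ⟨i, hi⟩ : Odd N.index := Nat.odd_iff.2 (by omega)
    have hxN : S.M.q 0 ∈ N := by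
      have e := N.pow_index_mem (S.M.q 0)
      rw [hi, pow_succ, pow_mul, ← hcx] at e
      exact (N.mul_mem_cancel_left (pow_mem (le_sup_right (a := M) (mem_zpowers _)) i)).1 e
    rw [← SetLike.mem_coe, hN, Subgroup.mul_normal] at hxN
    obtain ⟨m, hm, w, hw, hmw⟩ := hxN
    obtain ⟨j, rfl⟩ := mem_zpowers_iff.1 hw
    refine hc ?_
    have e : S.M.q 0 ^ 2 = m ^ 2 := by
      rw [← hmw, (((hcq m).zpow_left j).symm).mul_pow]
      rw [← zpow_natCast (cQ S ^ j) 2, ← zpow_mul, mul_comm, zpow_mul, zpow_natCast,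
        show cQ S ^ 2 = 1 by rw [← hc2]; exact pow_orderOf_eq_one _, one_zpow, mul_one]
    rw [hcx, e]
    exact pow_mem hm 2
  -- otherwise `M` commutes with every conjugate of the element of order eleven
  have hpow : ∀ r k : ℕ, r.Prime → 0 < k → r ^ k ∣ Nat.card ↥M → ¬ 11 ∣ r ^ k - 1 := by
    intro r k hr hk h
    have h' := h.trans hcard
    have hr' : r ∣ 2 ^ 11 * (3 ^ 2 * (5 ^ 3 * (7 * 11))) := by
      rw [show 2 ^ 11 * (3 ^ 2 * (5 ^ 3 * (7 * 11))) = 177408000 by norm_num]
      exact (dvd_pow_self r hk.ne').trans h'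
    have hbound : ∀ (b : ℕ), ¬ r ^ (b + 1) ∣ Nat.card ↥M → k ≤ b := fun b hb => by
      by_contra hlt
      exact hb ((pow_dvd_pow r (by omega)).trans h)
    have hbound' : ∀ (b : ℕ), ¬ r ^ (b + 1) ∣ 177408000 → k ≤ b := fun b hb =>
      hbound b fun h' => hb (h'.trans hcard)
    rcases hr.dvd_mul.1 hr' with h1 | h1
    · obtain rfl := (Nat.prime_dvd_prime_iff_eq hr Nat.prime_two).1 (hr.dvd_of_dvd_pow h1)
      have := hbound 9 h2
      interval_cases k <;> norm_num
    rcases hr.dvd_mul.1 h1 with h1 | h1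
    · obtain rfl := (Nat.prime_dvd_prime_iff_eq hr Nat.prime_three).1 (hr.dvd_of_dvd_pow h1)
      have := hbound' 2 (by norm_num)
      interval_cases k <;> norm_num
    rcases hr.dvd_mul.1 h1 with h1 | h1
    · obtain rfl := (Nat.prime_dvd_prime_iff_eq hr (by norm_num : Nat.Prime 5)).1 (hr.dvd_of_dvd_pow h1)
      have := hbound' 3 (by norm_num)
      interval_cases k <;> norm_num
    rcases hr.dvd_mul.1 h1 with h1 | h1
    · obtain rfl := (Nat.prime_dvd_prime_iff_eq hr (by norm_num : Nat.Prime 7)).1 h1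
      have := hbound' 1 (by norm_num)
      interval_cases k
      norm_num
    · obtain rfl := (Nat.prime_dvd_prime_iff_eq hr (by norm_num : Nat.Prime 11)).1 h1
      exact absurd ((dvd_pow_self 11 hk.ne').trans h) h11
  have hcentre : ∀ a, orderOf a = 11 → a ∈ centralizer (M : Set ↥(sub3 : Subgroup Cfsg.Spor.HN)) := fun a ha =>
    IndexSimple.mem_centralizer_of_prime_pow M a 11 ha h11 hpow
  have hco : ∀ g, g⁻¹ * S.M.el wV * g ∈ centralizer (M : Set ↥(sub3 : Subgroup Cfsg.Spor.HN)) := fun g =>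
    hcentre _ (by
      rw [← hv11, show g⁻¹ * S.M.el wV * g = MulAut.conj g⁻¹ (S.M.el wV) by simp, MulEquiv.orderOf_eq])
  obtain ⟨hxC, hyC⟩ := closure_witness S hx4 hC hP _ (hcentre _ hv11) (hco _) (hco _)
  obtain ⟨⟨p, hp⟩, hp1⟩ := M.ne_bot_iff_exists_ne_one.1 hM
  have h := fact_small S hx4 hC hP p p.2
    (show (p : Cfsg.Spor.HN) * gx = gx * p by
      rw [← S.q_x]; exact congrArg Subtype.val (mem_centralizer_iff.1 hxC p hp))
    (show (p : Cfsg.Spor.HN) * gy = gy * p by
      rw [← S.q_y]; exact congrArg Subtype.val (mem_centralizer_iff.1 hyC p hp))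
  obtain ⟨j, hj⟩ := mem_zpowers_iff.1 h
  rcases Int.emod_two_eq j with he | he <;>
    rw [← Int.emod_add_mul_ediv j 2, he, zpow_add, zpow_mul, zpow_two, cen_sq hx4, one_zpow, mul_one] at hj
  · exact absurd (Subtype.ext (Subtype.ext (by rw [← hj, zpow_zero]; rfl)) : (⟨p, hp⟩ : M) = 1) hp1
  · rw [show cQ S = p from Subtype.ext (by rw [← hj, zpow_one, coe_cQ])]
    exact hp

theorem normalizer_sub3 : normalizer ((sub3 : Subgroup Cfsg.Spor.HN) : Set Cfsg.Spor.HN) = sub3 := by
  refine le_antisymm (fun g hg => ?_) le_normalizer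
  have hcP : cen ∈ (sub3 : Subgroup Cfsg.Spor.HN) := pow_mem (gen_mem _ (by simp)) 2
  have hle : sub3 ≤ centralizer ({cen} : Set Cfsg.Spor.HN) := by
    rw [map_le_iff_le_comap, closure_le]
    rintro _ (rfl | rfl | rfl) <;> rw [SetLike.mem_coe, mem_comap, mem_centralizer_singleton_iff]
    exacts [cen_x.eq.symm, (cen_y hx4).eq.symm, (cen_z hx4).eq.symm]
  have hu : g * cen * g⁻¹ ∈ sub3 := (mem_normalizer_iff.1 hg cen).1 hcP
  have hcom : ∀ p ∈ (sub3 : Subgroup Cfsg.Spor.HN), Commute (g * cen * g⁻¹) p := fun p hp => by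
    have hp' : g⁻¹ * p * g ∈ sub3 := by
      have := (mem_normalizer_iff.1 (inv_mem hg) p).1 hp
      rwa [inv_inv] at this
    have h : (g⁻¹ * p * g) * cen = cen * (g⁻¹ * p * g) := mem_centralizer_singleton_iff.1 (hle hp')
    show g * cen * g⁻¹ * p = p * (g * cen * g⁻¹)
    calc g * cen * g⁻¹ * p = g * (cen * (g⁻¹ * p * g)) * g⁻¹ := by group
      _ = p * (g * cen * g⁻¹) := by rw [← h]; group
  obtain ⟨j, hj⟩ := mem_zpowers_iff.1 (fact_small S hx4 hC hP _ hu (hcom _ (gen_mem _ (by simp)))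
    (hcom _ (gen_mem _ (by simp))))
  refine fact_cent S hx4 hC hP g ?_
  rcases Int.emod_two_eq j with he | he <;>
    rw [← Int.emod_add_mul_ediv j 2, he, zpow_add, zpow_mul, zpow_two, cen_sq hx4, one_zpow, mul_one] at hj
  · rw [zpow_zero, eq_comm, mul_inv_eq_one, mul_eq_left] at hj
    exact absurd hj (cen_ne S hx4 hC hP)
  · rw [zpow_one, eq_comm, mul_inv_eq_iff_eq_mul] at hj
    exact hj

theorem normal_top (N : Subgroup Cfsg.Spor.HN) (hN : N.Normal) (hne : N ⊓ sub3 ≠ ⊥) : N = ⊤ := by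
  have : (N.subgroupOf sub3).Normal := hN.subgroupOf sub3
  have hcN : cen ∈ N := by
    have h := cen_mem S hx4 hC hP (N.subgroupOf sub3) (by
      rw [Ne, subgroupOf_eq_bot, disjoint_iff]
      exact hne)
    rw [← coe_cQ S]
    exact mem_subgroupOf.1 h
  obtain ⟨-, -, -, r4, -, r6, r7, r8, -, r10, r11, -, -, r14⟩ := rel_list
  set π : Cfsg.Spor.HN →* Cfsg.Spor.HN ⧸ N := QuotientGroup.mk' N with hπ
  have hc : π gx ^ 2 = 1 := by rw [← map_pow]; exact (QuotientGroup.eq_one_iff _).2 hcN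
  have ht : π gt = 1 := by
    have e : (π gt)⁻¹ = π gt := by
      have h := congrArg π cen_t
      rw [map_mul, map_mul, map_inv, map_inv, map_pow, hc] at h
      simpa using h.symm
    have e2 : π gt * π gt = 1 := by
      calc π gt * π gt = π gt * (π gt)⁻¹ := by rw [e]
        _ = 1 := mul_inv_cancel _
    calc π gt = π gt ^ 5 * ((π gt * π gt) * (π gt * π gt))⁻¹ := by group
      _ = 1 := by rw [← map_pow, r11, map_one, e2]; group
  have hz : π gz = 1 := by
    have h := congrArg π r14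
    rw [map_pow, map_mul, ht, mul_one, map_one, pow_succ, ← map_pow, r7, map_one, one_mul] at h
    exact h
  have hx : π gx = 1 := by
    have h := congrArg π r10
    simp only [map_mul, map_inv, map_pow, map_one, hz, inv_one, one_mul, mul_one, inv_mul_cancel] at h
    rwa [pow_succ, hc, one_mul] at h
  have hy : π gy = 1 := by
    have h := congrArg π r4
    simp only [map_mul, map_inv, map_pow, map_one, hx, inv_one, one_mul, mul_one, ← pow_add, ← pow_mul] at h
    have h' := congrArg π r6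
    simp only [map_mul, map_pow, map_one, hx, one_mul, mul_one, ← pow_succ', ← pow_mul] at h'
    calc π gy = π gy ^ ((3 + 1) * 4) * (π gy ^ ((2 + 3) * 3))⁻¹ := by group
      _ = 1 := by rw [h, h', inv_one, mul_one]
  have htop : π = 1 := by
    refine PresentedGroup.ext fun i => ?_
    cases i
    exacts [hx, hy, hz, ht]
  refine eq_top_iff.2 fun g _ => (QuotientGroup.eq_one_iff g).1 ?_
  exact DFunLike.congr_fun htop g

/-- The group is simple. -/
theorem simple : IsSimpleGroup Cfsg.Spor.HN := by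
  have : Finite Cfsg.Spor.HN := Nat.finite_of_card_ne_zero (by rw [hC]; norm_num)
  have := Fact.mk (show Nat.Prime 11 by norm_num)
  obtain ⟨v, hv, hvc, -⟩ := fact_eleven S hx4 hC hP
  refine IndexSimple.isSimpleGroup sub3 (normalizer_sub3 S hx4 hC hP)
    (fun N hN h => normal_top S hx4 hC hP N hN h) v (fact_cent S hx4 hC hP v hvc) 11 hv ?_ ?_
  · rw [index_sub3 hx4 hC hP]; norm_num
  · intro r k hr hk h
    rw [index_sub3 hx4 hC hP] at h
    exact pow_cases hr hk h

/-- The group is HN. -/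
theorem isHN : Cfsg.IsHN Cfsg.Spor.HN := ⟨simple S hx4 hC hP, hC⟩

end Cfsg.Agent.HNOut
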